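import Cfsg.Agent.IcoLeech.MinVectors

/-! The reflections of the icosian Leech lattice. -/

set_option autoImplicit false
set_option maxRecDepth 100000

noncomputable section

namespace Cfsg.IcoLeech

open Quaternion Cfsg.Spor Data

/-- A quaternion in twice the icosian ring. -/
def InTwo (q : ℍ[ℝ]) : Prop := ∃ z ∈ icosians, q = z + z

theorem InTwo.add {p q : ℍ[ℝ]} (hp : InTwo p) (hq : InTwo q) : InTwo (p + q) := by
  obtain ⟨a, ha, rfl⟩ := hp
  obtain ⟨b, hb, rfl⟩ := hq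
  exact ⟨a + b, add_mem ha hb, by abel⟩

theorem InTwo.mul {p a b : ℍ[ℝ]} (hp : InTwo p) (ha : a ∈ icosians) (hb : b ∈ icosians) :
    InTwo (a * p * b) := by
  obtain ⟨c, hc, rfl⟩ := hp
  exact ⟨a * c * b, mul_mem (mul_mem ha hc) hb, by rw [mul_add, add_mul]⟩

theorem star_mem {q : ℍ[ℝ]} (hq : q ∈ icosians) : star q ∈ icosians := by
  obtain ⟨x, rfl⟩ := mem_icosians_iff.1 hq
  exact mem_icosians_iff.2 ⟨x.conj, Ico.toQ_conj x⟩

/-- Three generators of the lattice as a left module. -/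
def basisV : Fin 3 → V3 := ![(hB, hB, hB), (-hE, -hE, 0), (0, hE, hE)]

theorem exists_coeffs {x : Fin 3 → ℍ[ℝ]} (hx : x ∈ icoLeech) :
    ∃ c : Fin 3 → ℍ[ℝ], (∀ i, c i ∈ icosians) ∧
      x = fun t => ∑ i, c i * toV (basisV i) t := by
  obtain ⟨h, ⟨a1, ha1, e1⟩, ⟨b1, hb1, e2⟩, c1, hc1, e3⟩ := hx
  have hh : icoH * star icoH = 2 := by
    rw [← toQ_hE, ← Ico.toQ_conj, show hE.conj = hB from rfl, ← Ico.toQ_mul, hE_hB, toQ_scalar]
    simp [Zt.val]
    exact map_ofNat (algebraMap ℝ ℍ[ℝ]) 2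
  have mH : icoH ∈ icosians := toQ_hE ▸ mem_icosians_iff.2 ⟨hE, rfl⟩
  refine ⟨![c1 - x 0 * icoH + a1 * icoH * icoH, -b1, -a1], fun i => ?_, ?_⟩
  · fin_cases i
    · exact add_mem (sub_mem hc1 (mul_mem (h 0) mH)) (mul_mem (mul_mem ha1 mH) mH)
    · exact neg_mem hb1
    · exact neg_mem ha1
  have k1 : x 0 - b1 * icoH = c1 * star icoH - (2 : ℍ[ℝ]) * x 0 + (2 : ℍ[ℝ]) * (a1 * icoH) := by
    rw [← e3, ← e2, ← e1]
    noncomm_ring
  have k2 : (c1 - x 0 * icoH + a1 * icoH * icoH) * star icoH = x 0 - b1 * icoH := by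
    have two_comm : ∀ q : ℍ[ℝ], q * 2 = 2 * q := fun q => by rw [mul_two, two_mul]
    rw [k1, add_mul, sub_mul, mul_assoc (x 0), hh, mul_assoc (a1 * icoH), hh, two_comm, two_comm]
  funext t
  rw [Fin.sum_univ_three]
  fin_cases t
  · simp [toV, basisV, toQ_hE, toQ_hB, k2]
  · simp [toV, basisV, toQ_hE, toQ_hB, k2]
    rw [← e1]
    noncomm_ring
  · simp [toV, basisV, toQ_hE, toQ_hB, k2]
    have : x 2 = x 0 - a1 * icoH - b1 * icoH := by rw [← e1, ← e2]; abel
    rw [this]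
    noncomm_ring

theorem gram_even : ∀ i j : Fin 3, code (ip (basisV i) (basisV j)) = 0 := by decide +kernel

theorem qip_inTwo {x r : Fin 3 → ℍ[ℝ]} (hx : x ∈ icoLeech) (hr : r ∈ icoLeech) :
    InTwo (qip x r) := by
  obtain ⟨a, ha, rfl⟩ := exists_coeffs hx
  obtain ⟨b, hb, rfl⟩ := exists_coeffs hr
  have e : qip (fun t => ∑ i, a i * toV (basisV i) t) (fun t => ∑ j, b j * toV (basisV j) t) =
      ∑ i, ∑ j, a i * qip (toV (basisV i)) (toV (basisV j)) * star (b j) := by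
    simp only [qip, star_sum, star_mul, Finset.sum_mul, Finset.mul_sum, mul_assoc]
    rw [Finset.sum_comm]
    conv_rhs => rw [Finset.sum_comm]
    refine Finset.sum_congr rfl fun j _ => ?_
    rw [Finset.sum_comm]
  rw [e]
  have z : InTwo 0 := ⟨0, zero_mem _, (add_zero 0).symm⟩
  refine Finset.sum_induction _ InTwo (fun _ _ => InTwo.add) z fun i _ =>
    Finset.sum_induction _ InTwo (fun _ _ => InTwo.add) z fun j _ => ?_
  refine InTwo.mul ?_ (ha i) (star_mem (hb j))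
  obtain ⟨y, hy⟩ := (bit_code_eq _).1 (gram_even i j)
  exact ⟨y.toQ, mem_icosians_iff.2 ⟨y, rfl⟩, by rw [qip_toV, hy, Ico.toQ_add]⟩

theorem sub_mem_icoLeech {x y : Fin 3 → ℍ[ℝ]} (hx : x ∈ icoLeech) (hy : y ∈ icoLeech) :
    (fun t => x t - y t) ∈ icoLeech := by
  obtain ⟨h, ⟨a, ha, ea⟩, ⟨b, hb, eb⟩, c, hc, ec⟩ := hx
  obtain ⟨h', ⟨a', ha', ea'⟩, ⟨b', hb', eb'⟩, c', hc', ec'⟩ := hy
  refine ⟨fun t => sub_mem (h t) (h' t), ⟨a - a', sub_mem ha ha', ?_⟩, ⟨b - b', sub_mem hb hb', ?_⟩,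
    c - c', sub_mem hc hc', ?_⟩
  · rw [sub_mul, ← ea, ← ea']; dsimp only; exact (sub_sub_sub_comm _ _ _ _)
  · rw [sub_mul, ← eb, ← eb']; dsimp only; exact (sub_sub_sub_comm _ _ _ _)
  · rw [sub_mul, ← ec, ← ec']; dsimp only; rw [add_sub_add_comm, add_sub_add_comm]

theorem half_qip_mem {x r : Fin 3 → ℍ[ℝ]} (hx : x ∈ icoLeech) (hr : r ∈ icoLeech) :
    (1 / 2 : ℝ) • qip x r ∈ icosians := by
  obtain ⟨z, hz, e⟩ := qip_inTwo hx hr
  rw [e, ← two_smul ℝ z, smul_smul]
  simpa using hz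

theorem qrefl_mem {x r : Fin 3 → ℍ[ℝ]} (hx : x ∈ icoLeech) (hr : r ∈ icoLeech) :
    qrefl r x ∈ icoLeech :=
  sub_mem_icoLeech hx (lmul_mem (half_qip_mem hx hr) hr)

theorem four_central (q : ℍ[ℝ]) : q * 4 = (4 : ℝ) • q := by
  rw [show (4 : ℍ[ℝ]) = algebraMap ℝ ℍ[ℝ] 4 from (map_ofNat _ 4).symm, ← Algebra.commutes,
    Algebra.smul_def]

theorem qip_qrefl_left {r : Fin 3 → ℍ[ℝ]} (h4 : qip r r = 4) (x : Fin 3 → ℍ[ℝ]) :
    qip (qrefl r x) r = -qip x r := by
  have e : qip (qrefl r x) r = qip x r - ((1 / 2 : ℝ) • qip x r) * qip r r := by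
    simp only [qip, qrefl, sub_mul, Finset.sum_sub_distrib, mul_assoc, ← Finset.mul_sum]
  rw [e, h4, four_central, smul_smul]
  module

theorem qrefl_involutive {r : Fin 3 → ℍ[ℝ]} (h4 : qip r r = 4) (x : Fin 3 → ℍ[ℝ]) :
    qrefl r (qrefl r x) = x := by
  funext t
  show qrefl r x t - ((1 / 2 : ℝ) • qip (qrefl r x) r) * r t = x t
  rw [qip_qrefl_left h4]
  simp [qrefl]

theorem star_qip (x r : Fin 3 → ℍ[ℝ]) : star (qip x r) = qip r x := by
  simp [qip, star_sum, star_mul, star_star]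

theorem qip_qrefl_qrefl {m : Fin 3 → ℍ[ℝ]} (h4 : qip m m = 4) (x r : Fin 3 → ℍ[ℝ]) :
    qip (qrefl m x) (qrefl m r) = qip x r := by
  have e : qip (qrefl m x) (qrefl m r) = qip (qrefl m x) r -
      qip (qrefl m x) m * star ((1 / 2 : ℝ) • qip r m) := by
    simp only [qip, qrefl, star_sub, star_mul, mul_sub, Finset.sum_sub_distrib, Finset.sum_mul,
      mul_assoc]
  have e' : qip (qrefl m x) r = qip x r - ((1 / 2 : ℝ) • qip x m) * qip m r := by
    simp only [qip, qrefl, sub_mul, Finset.sum_sub_distrib, mul_assoc, ← Finset.mul_sum]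
  rw [e, e', qip_qrefl_left h4, Quaternion.star_smul, star_qip, neg_mul, mul_smul_comm, smul_mul_assoc]
  abel

theorem qip_qrefl_right (r m x : Fin 3 → ℍ[ℝ]) :
    qip (qrefl r x) m = qip x m - ((1 / 2 : ℝ) • qip x r) * qip r m := by
  simp only [qip, qrefl, sub_mul, Finset.sum_sub_distrib, mul_assoc, ← Finset.mul_sum]

/-- The reflection in a minimal vector, as a permutation of the lattice. -/
def reflPerm (r : icoLeech) (h4 : qip (r : Fin 3 → ℍ[ℝ]) r = 4) : Equiv.Perm icoLeech :=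
  Function.Involutive.toPerm (fun x => ⟨qrefl r x, qrefl_mem x.2 r.2⟩)
    fun x => Subtype.ext (qrefl_involutive h4 x)

theorem reflPerm_apply (r : icoLeech) (h4 : qip (r : Fin 3 → ℍ[ℝ]) r = 4) (x : icoLeech) :
    ((reflPerm r h4 x : icoLeech) : Fin 3 → ℍ[ℝ]) = qrefl r x := rfl

theorem isIco_reflPerm (r : icoLeech) (h4 : qip (r : Fin 3 → ℍ[ℝ]) r = 4) :
    IsIcoReflection (reflPerm r h4) := ⟨r, h4, fun _ => rfl⟩

theorem reflPerm_mem (r : icoLeech) (h4 : qip (r : Fin 3 → ℍ[ℝ]) r = 4) : reflPerm r h4 ∈ twoJ2 :=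
  Subgroup.subset_closure (isIco_reflPerm r h4)

/-- The projection products of a vector. -/
def projKey (v : V3) : List Ico :=
  [v.1.conj * v.1, v.1.conj * v.2.1, v.1.conj * v.2.2, v.2.1.conj * v.2.1, v.2.1.conj * v.2.2,
    v.2.2.conj * v.2.2]

theorem projKey_eq_iff (v w : V3) :
    projKey v = projKey w ↔ ∀ s t : Fin 3, star (toV v s) * toV v t = star (toV w s) * toV w t := by
  obtain ⟨a, b, c⟩ := v
  obtain ⟨a', b', c'⟩ := w
  constructor
  · intro h
    simp only [projKey, List.cons.injEq, and_true] at h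
    obtain ⟨h00, h01, h02, h11, h12, h22⟩ := h
    replace h00 := congrArg Ico.toQ h00
    replace h01 := congrArg Ico.toQ h01
    replace h02 := congrArg Ico.toQ h02
    replace h11 := congrArg Ico.toQ h11
    replace h12 := congrArg Ico.toQ h12
    replace h22 := congrArg Ico.toQ h22
    simp only [Ico.toQ_mul, Ico.toQ_conj] at h00 h01 h02 h11 h12 h22
    have h10 := congrArg star h01
    have h20 := congrArg star h02
    have h21 := congrArg star h12
    simp only [star_mul, star_star] at h10 h20 h21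
    intro s t
    fin_cases s <;> fin_cases t <;> simp [toV] <;> assumption
  · intro h
    have e : ∀ {x y x' y' : Ico}, star x.toQ * y.toQ = star x'.toQ * y'.toQ →
        x.conj * y = x'.conj * y' := fun {x y x' y'} h =>
      Ico.toQ_injective (by simpa using h)
    simp only [projKey, List.cons.injEq, and_true]
    exact ⟨e (h 0 0), e (h 0 1), e (h 0 2), e (h 1 1), e (h 1 2), e (h 2 2)⟩

theorem qrefl_congr {r r' : Fin 3 → ℍ[ℝ]}
    (h : ∀ s t, star (r s) * r t = star (r' s) * r' t) : qrefl r = qrefl r' := by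
  funext x t
  simp only [qrefl, qip, smul_mul_assoc, Finset.sum_mul, mul_assoc, h]

theorem qrefl_lmul {u : ℍ[ℝ]} (hu : star u * u = 1) (r : Fin 3 → ℍ[ℝ]) :
    qrefl (fun t => u * r t) = qrefl r := by
  refine qrefl_congr fun s t => ?_
  rw [star_mul, mul_assoc, ← mul_assoc (star u), hu, one_mul]

theorem lmul_line_mem {u : Ico} {l : V3} (hu : u ∈ units) (hl : l ∈ lines) :
    toV (V3.lmul u l) ∈ icoLeech ∧ qip (toV (V3.lmul u l)) (toV (V3.lmul u l)) = 4 := by
  rw [toV_lmul]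
  refine ⟨lmul_mem (mem_icosians_iff.2 ⟨u, rfl⟩) (line_mem hl).1, ?_⟩
  have e : qip (fun t => u.toQ * toV l t) (fun t => u.toQ * toV l t) =
      u.toQ * qip (toV l) (toV l) * star u.toQ := by
    simp only [qip, star_mul, Finset.mul_sum, Finset.sum_mul, mul_assoc]
  rw [e, (line_mem hl).2, four_central, smul_mul_assoc, ← Ico.toQ_conj, ← Ico.toQ_mul,
    (units_spec u hu).2, Ico.toQ_one, show (4 : ℍ[ℝ]) = algebraMap ℝ ℍ[ℝ] 4 from (map_ofNat _ 4).symm,
    Algebra.smul_def, mul_one]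

/-- A line as a lattice vector. -/
def lineVec (l : {l : V3 // l ∈ lines}) : icoLeech := ⟨toV l.1, (line_mem l.2).1⟩

/-- The reflection of a line. -/
def lineRefl (l : {l : V3 // l ∈ lines}) : Equiv.Perm icoLeech :=
  reflPerm (lineVec l) (line_mem l.2).2

theorem exists_lineRefl {f : Equiv.Perm icoLeech} (hf : IsIcoReflection f) :
    ∃ l, f = lineRefl l := by
  obtain ⟨r, h4, hr⟩ := hf
  obtain ⟨u, hu, l, hl, e⟩ := exists_line r.2 h4
  refine ⟨⟨l, hl⟩, Equiv.ext fun x => Subtype.ext ?_⟩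
  show _ = qrefl (toV l) _
  rw [hr x, e, toV_lmul, qrefl_lmul]
  rw [← Ico.toQ_conj, ← Ico.toQ_mul, (units_spec u hu).1, Ico.toQ_one]

theorem lineKeys_nodup : (lines.map projKey).Nodup := by decide +kernel

theorem lineRefl_injective : Function.Injective lineRefl := by
  rintro ⟨l, hl⟩ ⟨m, hm⟩ e
  refine Subtype.ext (List.inj_on_of_nodup_map lineKeys_nodup hl hm ((projKey_eq_iff _ _).2 ?_))
  have h := congrArg (fun f : Equiv.Perm icoLeech =>
    ((f (lineVec ⟨l, hl⟩) : icoLeech) : Fin 3 → ℍ[ℝ])) e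
  simp only [lineRefl, reflPerm_apply, lineVec] at h
  have h1 := (line_mem hl).2
  have h2 := (line_mem hm).2
  revert h h1 h2
  generalize toV l = a
  generalize toV m = b
  intro h h1 h2
  set c := (1 / 2 : ℝ) • qip a b with hc
  have e2 : ∀ t, c * b t = (2 : ℝ) • a t := by
    intro t
    have ht := congrFun h t
    simp only [qrefl, h1] at ht
    rw [← hc, show ((1 / 2 : ℝ) • (4 : ℍ[ℝ])) * a t = (2 : ℝ) • a t by
      rw [smul_mul_assoc, show (4 : ℍ[ℝ]) = algebraMap ℝ ℍ[ℝ] 4 from (map_ofNat _ 4).symm,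
        ← Algebra.smul_def, smul_smul]
      norm_num] at ht
    exact (sub_right_inj.1 ht).symm
  have hn : Quaternion.normSq c = 4 := by
    have k : c * qip b b * star c = (4 : ℝ) • qip a a := by
      have : c * qip b b * star c = qip (fun t => c * b t) (fun t => c * b t) := by
        simp only [qip, star_mul, Finset.mul_sum, Finset.sum_mul, mul_assoc]
      rw [this]
      simp only [e2, qip, Quaternion.star_smul, smul_mul_assoc, mul_smul_comm, smul_smul,
        Finset.smul_sum]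
      norm_num
    rw [h1, h2, four_central, smul_mul_assoc, Quaternion.self_mul_star] at k
    have k' := smul_right_injective ℍ[ℝ] (show (4 : ℝ) ≠ 0 by norm_num) k
    exact Quaternion.coe_injective (k'.trans (map_ofNat (algebraMap ℝ ℍ[ℝ]) 4).symm)
  intro s t
  refine smul_right_injective ℍ[ℝ] (show (4 : ℝ) ≠ 0 by norm_num) ?_
  show (4 : ℝ) • _ = (4 : ℝ) • _
  calc (4 : ℝ) • (star (a s) * a t) = star ((2 : ℝ) • a s) * ((2 : ℝ) • a t) := by
        rw [Quaternion.star_smul, smul_mul_assoc, mul_smul_comm, smul_smul]; norm_num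
    _ = star (b s) * (star c * c) * b t := by
        rw [← e2, ← e2, star_mul]; simp only [mul_assoc]
    _ = (4 : ℝ) • (star (b s) * b t) := by
        rw [Quaternion.star_mul_self, hn, ← Quaternion.coe_commutes, Quaternion.coe_mul_eq_smul,
          smul_mul_assoc]

theorem set_reflections_eq : {f : Equiv.Perm icoLeech | IsIcoReflection f} = Set.range lineRefl := by
  ext f
  refine ⟨fun hf => ?_, ?_⟩
  · obtain ⟨l, rfl⟩ := exists_lineRefl hf
    exact ⟨l, rfl⟩
  · rintro ⟨l, rfl⟩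
    exact isIco_reflPerm _ _

/-- The image of a vector under a reflection, in coordinates. -/
def reflI (m x : V3) : V3 :=
  let c := ip x m
  let h : Ico := ⟨halfZ c.z0, halfZ c.z1, halfZ c.z2, halfZ c.z3⟩
  (x.1 - h * m.1, x.2.1 - h * m.2.1, x.2.2 - h * m.2.2)

theorem toV_reflI {m x : V3} (hc : code (ip x m) = 0) : toV (reflI m x) = qrefl (toV m) (toV x) := by
  obtain ⟨y, hy⟩ := (bit_code_eq _).1 hc
  have hh : (⟨halfZ (ip x m).z0, halfZ (ip x m).z1, halfZ (ip x m).z2, halfZ (ip x m).z3⟩ : Ico) = y := by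
    rw [hy]
    obtain ⟨⟨a, b⟩, ⟨c, d⟩, ⟨e, f⟩, ⟨g, k⟩⟩ := y
    show (⟨halfZ (Ico.add _ _).z0, halfZ (Ico.add _ _).z1, halfZ (Ico.add _ _).z2,
      halfZ (Ico.add _ _).z3⟩ : Ico) = _
    simp only [Ico.add]
    have e : ∀ p q : ℤ, halfZ ((⟨p, q⟩ : Zt) + ⟨p, q⟩) = ⟨p, q⟩ := fun p q => by
      rw [show (⟨p, q⟩ : Zt) + ⟨p, q⟩ = ⟨2 * p, 2 * q⟩ by ext <;> simp [two_mul]]
      simp [halfZ]
    simp only [e]
  funext t
  simp only [qrefl, qip_toV, hy, Ico.toQ_add, reflI]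
  rw [show (⟨halfZ (y + y).z0, halfZ (y + y).z1, halfZ (y + y).z2,
    halfZ (y + y).z3⟩ : Ico) = y from hy ▸ hh, ← two_smul ℝ, smul_smul]
  fin_cases t <;> simp [toV]

/-- The line with a given index. -/
def lineAt (i : ℕ) : V3 := lines.getD i (0, 0, 0)

/-- The index in position `k` of the tree. -/
def orderAt (k : ℕ) : ℕ := (root :: tree.map Prod.fst).getD k 0

/-- The check of the tree. -/
def treeB : Bool :=
  (List.range tree.length).all fun k =>
    let e := tree.getD k (0, 0, 0)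
    let x := lineAt (orderAt e.2.1)
    let m := lineAt (gens.getD e.2.2 0)
    decide (e.2.1 ≤ k) && decide (orderAt e.2.1 < 315) && decide (gens.getD e.2.2 0 < 315) &&
      decide (orderAt (k + 1) < 315) && code (ip x m) == 0 &&
      projKey (reflI m x) == projKey (lineAt (orderAt (k + 1)))

theorem treeB_eq : treeB = true := by decide +kernel

theorem tree_cover : ∀ i ∈ List.range 315, i ∈ root :: tree.map Prod.fst := by decide +kernel

theorem root_lt : root < 315 := by decide +kernel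

theorem lineAt_mem {i : ℕ} (hi : i < 315) : lineAt i ∈ lines := by
  rw [lineAt, List.getD_eq_getElem _ _ (by rw [lines_length]; exact hi)]
  exact List.getElem_mem _

theorem lineRefl_conj {m l n : {l : V3 // l ∈ lines}}
    (hc : code (ip l.1 m.1) = 0) (hk : projKey (reflI m.1 l.1) = projKey n.1) :
    lineRefl m * lineRefl l * (lineRefl m)⁻¹ = lineRefl n := by
  have hm := (line_mem m.2).2
  rw [mul_inv_eq_iff_eq_mul]
  refine Equiv.ext fun x => Subtype.ext ?_
  simp only [Equiv.Perm.mul_apply, lineRefl, reflPerm_apply, lineVec]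
  rw [← qrefl_congr ((projKey_eq_iff _ _).1 hk), toV_reflI hc]
  funext t
  show qrefl (toV l.1) (x : Fin 3 → ℍ[ℝ]) t -
      ((1 / 2 : ℝ) • qip (qrefl (toV l.1) x) (toV m.1)) * toV m.1 t =
    qrefl (toV m.1) (x : Fin 3 → ℍ[ℝ]) t -
      ((1 / 2 : ℝ) • qip (qrefl (toV m.1) x) (qrefl (toV m.1) (toV l.1))) * qrefl (toV m.1) (toV l.1) t
  rw [qip_qrefl_qrefl hm, qip_qrefl_right]
  simp only [qrefl]
  simp only [smul_sub, sub_mul, mul_sub, smul_mul_assoc, mul_smul_comm, mul_assoc]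
  abel

theorem conj_root : ∀ k, k < 315 → ∃ g ∈ twoJ2, ∀ h : orderAt k < 315,
    g * lineRefl ⟨_, lineAt_mem root_lt⟩ * g⁻¹ = lineRefl ⟨_, lineAt_mem h⟩ := by
  intro k
  induction k using Nat.strong_induction_on with
  | _ k ih =>
    intro hk
    match k with
    | 0 => exact ⟨1, one_mem _, fun h => by simp [orderAt]⟩
    | k + 1 =>
      have hlen : tree.length = 314 := by decide +kernel
      have h := List.all_eq_true.1 treeB_eq k (List.mem_range.2 (by omega))
      simp only [Bool.and_eq_true, decide_eq_true_eq, beq_iff_eq] at h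
      obtain ⟨⟨⟨⟨⟨hp, hx⟩, hg⟩, hn⟩, hc⟩, hkey⟩ := h
      obtain ⟨g, hgm, hge⟩ := ih _ (Nat.lt_succ_of_le hp) (by omega)
      refine ⟨lineRefl ⟨_, lineAt_mem hg⟩ * g, mul_mem (reflPerm_mem _ _) hgm, fun _ => ?_⟩
      rw [← lineRefl_conj (m := ⟨_, lineAt_mem hg⟩) (l := ⟨_, lineAt_mem hx⟩)
        (n := ⟨_, lineAt_mem hn⟩) hc hkey, ← hge hx]
      group

theorem exists_conj_lineRefl (l l' : {l : V3 // l ∈ lines}) :
    ∃ g ∈ twoJ2, g * lineRefl l * g⁻¹ = lineRefl l' := by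
  have key : ∀ l : {l : V3 // l ∈ lines},
      ∃ g ∈ twoJ2, g * lineRefl ⟨_, lineAt_mem root_lt⟩ * g⁻¹ = lineRefl l := by
    rintro ⟨v, hv⟩
    obtain ⟨i, hi, rfl⟩ := List.getElem_of_mem hv
    have hi' : i < 315 := lines_length ▸ hi
    have hm := tree_cover i (List.mem_range.2 hi')
    obtain ⟨k, hk, hk'⟩ := List.getElem_of_mem hm
    have hlen : (root :: tree.map Prod.fst).length = 315 := by decide +kernel
    have hord : orderAt k = i := by rw [orderAt, List.getD_eq_getElem _ _ hk, hk']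
    obtain ⟨g, hg, e⟩ := conj_root k (hlen ▸ hk)
    refine ⟨g, hg, (e (hord.symm ▸ hi')).trans (congrArg lineRefl (Subtype.ext ?_))⟩
    show lineAt (orderAt k) = _
    rw [hord, lineAt, List.getD_eq_getElem _ _ hi]
  obtain ⟨g, hg, e⟩ := key l
  obtain ⟨g', hg', e'⟩ := key l'
  refine ⟨g' * g⁻¹, mul_mem hg' (inv_mem hg), ?_⟩
  rw [← e', ← e]
  group

end Cfsg.IcoLeech

end
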