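import Cfsg.Agent.IcoLeech.Ring

/-! Tables: units, representatives of small icosians, and the 315 lines. -/

set_option autoImplicit false
set_option maxRecDepth 10000

namespace Cfsg.IcoLeech.Data

/-- Shorthand constructor. -/
def mk (a b c d e f g h : ℤ) : Ico := ⟨⟨a, b⟩, ⟨c, d⟩, ⟨e, f⟩, ⟨g, h⟩⟩

/-- The 120 units. -/
def units : List Ico :=
  [mk (-2) 1 1 (-1) 0 0 (-2) 2,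
   mk (-2) 1 (-1) 0 1 (-1) (-1) 1,
   mk (-2) 1 0 0 1 (-1) (-1) 1,
   mk (-1) 1 (-1) 0 1 (-1) (-1) 1,
   mk (-1) 1 0 0 1 (-1) (-1) 1,
   mk (-2) 1 (-1) 0 2 (-1) (-1) 1,
   mk (-2) 1 (-1) 1 2 (-1) (-1) 1,
   mk (-1) 1 1 (-1) (-1) 0 (-1) 1,
   mk 0 0 1 (-1) (-1) 0 (-1) 1,
   mk (-1) 0 0 0 0 0 (-1) 1,
   mk (-1) 0 1 (-1) 0 0 (-1) 1,
   mk (-1) 1 0 0 0 0 (-1) 1,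
   mk (-1) 1 1 (-1) 0 0 (-1) 1,
   mk (-2) 1 0 0 1 0 (-1) 1,
   mk (-1) 0 0 0 1 0 (-1) 1,
   mk 0 0 2 (-2) (-2) 1 (-1) 1,
   mk 0 0 2 (-1) (-2) 1 (-1) 1,
   mk (-1) 0 1 (-1) (-1) 1 (-1) 1,
   mk (-1) 0 2 (-1) (-1) 1 (-1) 1,
   mk 0 0 1 (-1) (-1) 1 (-1) 1,
   mk 0 0 2 (-1) (-1) 1 (-1) 1,
   mk (-2) 1 0 0 1 (-1) (-2) 1,
   mk (-2) 2 0 0 1 (-1) (-2) 1,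
   mk (-1) 1 1 (-1) (-1) 0 (-2) 1,
   mk (-1) 1 2 (-1) (-1) 0 (-2) 1,
   mk (-2) 1 1 (-1) 0 0 (-2) 1,
   mk (-2) 1 1 0 0 0 (-2) 1,
   mk (-1) 1 1 (-1) 0 0 (-2) 1,
   mk (-1) 1 1 0 0 0 (-2) 1,
   mk (-2) 1 0 0 1 0 (-2) 1,
   mk (-2) 1 1 0 1 0 (-2) 1,
   mk (-1) 0 2 (-1) (-1) 1 (-2) 1,
   mk (-1) 1 2 (-1) (-1) 1 (-2) 1,
   mk 0 0 (-2) 1 1 (-1) 1 0,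
   mk 0 0 (-1) 0 1 (-1) 1 0,
   mk (-1) 0 (-2) 1 2 (-1) 1 0,
   mk 0 0 (-2) 1 2 (-1) 1 0,
   mk 0 0 (-1) 0 0 0 1 0,
   mk 0 0 0 0 0 0 1 0,
   mk 1 (-1) (-1) 0 0 0 1 0,
   mk 1 (-1) 0 0 0 0 1 0,
   mk 1 (-1) 1 (-1) (-2) 1 1 0,
   mk 2 (-1) 1 (-1) (-2) 1 1 0,
   mk 1 (-1) 0 0 (-1) 1 1 0,
   mk 1 (-1) 1 (-1) (-1) 1 1 0,
   mk (-1) 1 (-2) 1 2 (-2) 0 0,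
   mk (-1) 1 (-1) 0 1 (-1) 0 0,
   mk (-1) 1 (-1) 1 1 (-1) 0 0,
   mk 0 0 (-1) 0 1 (-1) 0 0,
   mk 0 0 (-1) 1 1 (-1) 0 0,
   mk (-1) 0 (-2) 1 2 (-1) 0 0,
   mk (-1) 0 (-1) 1 2 (-1) 0 0,
   mk (-1) 1 (-2) 1 2 (-1) 0 0,
   mk (-1) 1 (-1) 1 2 (-1) 0 0,
   mk 0 0 0 0 (-1) 0 0 0,
   mk 0 0 1 (-1) (-1) 0 0 0,
   mk 1 0 0 0 (-1) 0 0 0,
   mk 1 0 1 (-1) (-1) 0 0 0,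
   mk (-1) 0 0 0 0 0 0 0,
   mk 0 0 (-1) 0 0 0 0 0,
   mk 0 0 1 0 0 0 0 0,
   mk 1 0 0 0 0 0 0 0,
   mk (-1) 0 (-1) 1 1 0 0 0,
   mk (-1) 0 0 0 1 0 0 0,
   mk 0 0 (-1) 1 1 0 0 0,
   mk 0 0 0 0 1 0 0 0,
   mk 1 (-1) 1 (-1) (-2) 1 0 0,
   mk 1 (-1) 2 (-1) (-2) 1 0 0,
   mk 1 0 1 (-1) (-2) 1 0 0,
   mk 1 0 2 (-1) (-2) 1 0 0,
   mk 0 0 1 (-1) (-1) 1 0 0,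
   mk 0 0 1 0 (-1) 1 0 0,
   mk 1 (-1) 1 (-1) (-1) 1 0 0,
   mk 1 (-1) 1 0 (-1) 1 0 0,
   mk 1 (-1) 2 (-1) (-2) 2 0 0,
   mk (-1) 1 (-1) 1 1 (-1) (-1) 0,
   mk (-1) 1 0 0 1 (-1) (-1) 0,
   mk (-2) 1 (-1) 1 2 (-1) (-1) 0,
   mk (-1) 1 (-1) 1 2 (-1) (-1) 0,
   mk (-1) 1 0 0 0 0 (-1) 0,
   mk (-1) 1 1 0 0 0 (-1) 0,
   mk 0 0 0 0 0 0 (-1) 0,
   mk 0 0 1 0 0 0 (-1) 0,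
   mk 0 0 2 (-1) (-2) 1 (-1) 0,
   mk 1 0 2 (-1) (-2) 1 (-1) 0,
   mk 0 0 1 0 (-1) 1 (-1) 0,
   mk 0 0 2 (-1) (-1) 1 (-1) 0,
   mk 1 (-1) (-2) 1 1 (-1) 2 (-1),
   mk 1 0 (-2) 1 1 (-1) 2 (-1),
   mk 2 (-1) (-1) 0 (-1) 0 2 (-1),
   mk 2 (-1) 0 0 (-1) 0 2 (-1),
   mk 1 (-1) (-1) 0 0 0 2 (-1),
   mk 1 (-1) (-1) 1 0 0 2 (-1),
   mk 2 (-1) (-1) 0 0 0 2 (-1),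
   mk 2 (-1) (-1) 1 0 0 2 (-1),
   mk 1 (-1) (-2) 1 1 0 2 (-1),
   mk 1 (-1) (-1) 1 1 0 2 (-1),
   mk 2 (-2) 0 0 (-1) 1 2 (-1),
   mk 2 (-1) 0 0 (-1) 1 2 (-1),
   mk 0 0 (-2) 1 1 (-1) 1 (-1),
   mk 0 0 (-1) 1 1 (-1) 1 (-1),
   mk 1 0 (-2) 1 1 (-1) 1 (-1),
   mk 1 0 (-1) 1 1 (-1) 1 (-1),
   mk 0 0 (-2) 1 2 (-1) 1 (-1),
   mk 0 0 (-2) 2 2 (-1) 1 (-1),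
   mk 1 0 0 0 (-1) 0 1 (-1),
   mk 2 (-1) 0 0 (-1) 0 1 (-1),
   mk 1 (-1) (-1) 1 0 0 1 (-1),
   mk 1 (-1) 0 0 0 0 1 (-1),
   mk 1 0 (-1) 1 0 0 1 (-1),
   mk 1 0 0 0 0 0 1 (-1),
   mk 0 0 (-1) 1 1 0 1 (-1),
   mk 1 (-1) (-1) 1 1 0 1 (-1),
   mk 2 (-1) 1 (-1) (-2) 1 1 (-1),
   mk 2 (-1) 1 0 (-2) 1 1 (-1),
   mk 1 (-1) 0 0 (-1) 1 1 (-1),
   mk 1 (-1) 1 0 (-1) 1 1 (-1),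
   mk 2 (-1) 0 0 (-1) 1 1 (-1),
   mk 2 (-1) 1 0 (-1) 1 1 (-1),
   mk 2 (-1) (-1) 1 0 0 2 (-2)]

/-- Orbit representatives of the small icosians. -/
def reps : List Ico :=
  [mk (-4) 2 2 (-2) 0 0 (-4) 4,
   mk (-4) 2 (-1) 0 2 (-2) (-3) 3,
   mk (-4) 2 0 (-1) 2 (-2) (-3) 3,
   mk (-4) 3 (-1) 0 2 (-2) (-3) 3,
   mk (-4) 3 0 (-1) 2 (-2) (-3) 3,
   mk (-5) 2 (-1) 0 3 (-2) (-3) 3,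
   mk (-4) 3 (-1) 0 3 (-2) (-3) 3,
   mk (-3) 2 0 (-1) 0 (-1) (-3) 3,
   mk (-3) 2 2 (-2) 0 (-1) (-3) 3,
   mk (-4) 2 0 (-1) 1 (-1) (-3) 3,
   mk (-4) 2 1 (-2) 1 (-1) (-3) 3,
   mk (-4) 2 1 (-1) 1 (-1) (-3) 3,
   mk (-4) 3 1 (-1) 1 (-1) (-3) 3,
   mk (-3) 1 0 (-1) 1 (-1) (-3) 3,
   mk (-3) 2 0 (-1) 1 (-1) (-3) 3,
   mk (-3) 2 0 0 1 (-1) (-3) 3,
   mk (-3) 2 1 (-1) 1 (-1) (-3) 3,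
   mk (-5) 2 0 (-1) 2 (-1) (-3) 3,
   mk (-5) 2 0 0 2 (-1) (-3) 3,
   mk (-4) 2 0 (-1) 2 (-1) (-3) 3,
   mk (-4) 2 0 0 2 (-1) (-3) 3,
   mk (-3) 2 0 (-1) 2 (-1) (-3) 3,
   mk (-3) 2 0 0 2 (-1) (-3) 3,
   mk (-5) 2 (-1) 0 3 (-1) (-3) 3,
   mk (-4) 2 0 0 3 (-1) (-3) 3,
   mk (-3) 2 1 (-2) (-1) 0 (-3) 3,
   mk (-3) 2 2 (-2) (-1) 0 (-3) 3,
   mk (-2) 1 2 (-2) (-1) 0 (-3) 3,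
   mk (-2) 1 3 (-2) (-1) 0 (-3) 3,
   mk (-3) 1 1 (-1) 0 0 (-3) 3,
   mk (-3) 1 2 (-2) 0 0 (-3) 3,
   mk (-4) 2 1 (-1) 1 (-1) (-4) 3,
   mk (-4) 3 1 (-1) 1 (-1) (-4) 3,
   mk (-3) 2 2 (-2) (-1) 0 (-4) 3,
   mk (-3) 2 3 (-2) (-1) 0 (-4) 3,
   mk (-4) 2 2 (-2) 0 0 (-4) 3,
   mk (-4) 2 2 (-1) 0 0 (-4) 3,
   mk (-2) 1 (-1) 0 1 (-1) (-1) 2,
   mk (-2) 1 0 (-1) 1 (-1) (-1) 2,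
   mk (-3) 1 (-1) 0 2 (-1) (-1) 2,
   mk (-2) 1 (-1) 0 2 (-1) (-1) 2,
   mk (-2) 1 0 (-1) 0 0 (-1) 2,
   mk (-2) 1 1 (-1) 0 0 (-1) 2,
   mk (-3) 2 (-1) 0 2 (-2) (-2) 2,
   mk (-3) 2 0 (-1) 1 (-1) (-2) 2,
   mk (-3) 2 0 0 1 (-1) (-2) 2,
   mk (-2) 1 0 (-1) 1 (-1) (-2) 2,
   mk (-2) 1 0 0 1 (-1) (-2) 2,
   mk (-2) 1 1 (-1) 0 0 (-2) 2,
   mk (-3) 2 0 0 1 (-1) (-3) 2,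
   mk (-1) 0 (-1) 0 1 (-1) 0 1]

/-- A block of lines. -/
def lines0 : List (Ico × Ico × Ico) :=
  [(mk (-4) 2 2 (-2) 0 0 (-4) 4, mk 0 0 0 0 0 0 0 0, mk 0 0 0 0 0 0 0 0),
   (mk 0 0 0 0 0 0 0 0, mk (-4) 2 2 (-2) 0 0 (-4) 4, mk 0 0 0 0 0 0 0 0),
   (mk 0 0 0 0 0 0 0 0, mk 0 0 0 0 0 0 0 0, mk (-4) 2 2 (-2) 0 0 (-4) 4),
   (mk (-3) 2 (-1) 0 2 (-2) (-2) 2, mk 0 0 0 0 0 0 0 0, mk (-1) 0 1 0 0 0 0 0),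
   (mk (-3) 2 (-1) 0 2 (-2) (-2) 2, mk 0 0 0 0 0 0 0 0, mk (-1) 0 (-1) 0 0 0 0 0),
   (mk (-3) 2 (-1) 0 2 (-2) (-2) 2, mk 0 0 0 0 0 0 0 0, mk 3 (-2) 1 0 (-2) 2 2 (-2)),
   (mk (-3) 2 (-1) 0 2 (-2) (-2) 2, mk 0 0 0 0 0 0 0 0, mk (-1) 0 3 (-2) (-2) 2 (-2) 2),
   (mk (-3) 2 (-1) 0 2 (-2) (-2) 2, mk 0 0 0 0 0 0 0 0, mk 1 0 (-3) 2 2 (-2) 2 (-2)),
   (mk (-3) 2 (-1) 0 2 (-2) (-2) 2, mk 0 0 0 0 0 0 0 0, mk (-3) 2 (-1) 0 2 (-2) (-2) 2),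
   (mk (-3) 2 (-1) 0 2 (-2) (-2) 2, mk 0 0 0 0 0 0 0 0, mk 1 0 1 0 0 0 0 0),
   (mk (-3) 2 (-1) 0 2 (-2) (-2) 2, mk 0 0 0 0 0 0 0 0, mk 1 0 (-1) 0 0 0 0 0),
   (mk (-3) 2 (-1) 0 2 (-2) (-2) 2, mk (-1) 0 1 0 0 0 0 0, mk 0 0 0 0 0 0 0 0),
   (mk (-3) 2 (-1) 0 2 (-2) (-2) 2, mk (-1) 0 (-1) 0 0 0 0 0, mk 0 0 0 0 0 0 0 0),
   (mk (-3) 2 (-1) 0 2 (-2) (-2) 2, mk 3 (-2) 1 0 (-2) 2 2 (-2), mk 0 0 0 0 0 0 0 0),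
   (mk (-3) 2 (-1) 0 2 (-2) (-2) 2, mk (-1) 0 3 (-2) (-2) 2 (-2) 2, mk 0 0 0 0 0 0 0 0),
   (mk (-3) 2 (-1) 0 2 (-2) (-2) 2, mk 1 0 (-3) 2 2 (-2) 2 (-2), mk 0 0 0 0 0 0 0 0),
   (mk (-3) 2 (-1) 0 2 (-2) (-2) 2, mk (-3) 2 (-1) 0 2 (-2) (-2) 2, mk 0 0 0 0 0 0 0 0),
   (mk (-3) 2 (-1) 0 2 (-2) (-2) 2, mk 1 0 1 0 0 0 0 0, mk 0 0 0 0 0 0 0 0),
   (mk (-3) 2 (-1) 0 2 (-2) (-2) 2, mk 1 0 (-1) 0 0 0 0 0, mk 0 0 0 0 0 0 0 0),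
   (mk 0 0 0 0 0 0 0 0, mk (-3) 2 (-1) 0 2 (-2) (-2) 2, mk (-1) 0 1 0 0 0 0 0),
   (mk 0 0 0 0 0 0 0 0, mk (-3) 2 (-1) 0 2 (-2) (-2) 2, mk (-1) 0 (-1) 0 0 0 0 0),
   (mk 0 0 0 0 0 0 0 0, mk (-3) 2 (-1) 0 2 (-2) (-2) 2, mk 3 (-2) 1 0 (-2) 2 2 (-2)),
   (mk 0 0 0 0 0 0 0 0, mk (-3) 2 (-1) 0 2 (-2) (-2) 2, mk (-1) 0 3 (-2) (-2) 2 (-2) 2),
   (mk 0 0 0 0 0 0 0 0, mk (-3) 2 (-1) 0 2 (-2) (-2) 2, mk 1 0 (-3) 2 2 (-2) 2 (-2)),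
   (mk 0 0 0 0 0 0 0 0, mk (-3) 2 (-1) 0 2 (-2) (-2) 2, mk (-3) 2 (-1) 0 2 (-2) (-2) 2),
   (mk 0 0 0 0 0 0 0 0, mk (-3) 2 (-1) 0 2 (-2) (-2) 2, mk 1 0 1 0 0 0 0 0),
   (mk 0 0 0 0 0 0 0 0, mk (-3) 2 (-1) 0 2 (-2) (-2) 2, mk 1 0 (-1) 0 0 0 0 0),
   (mk (-3) 2 0 (-1) 1 (-1) (-2) 2, mk (-2) 1 (-1) 1 2 (-1) (-1) 0, mk 0 0 1 (-1) (-1) 1 0 0),
   (mk (-3) 2 0 (-1) 1 (-1) (-2) 2, mk (-2) 1 (-1) 1 2 (-1) (-1) 0, mk 0 0 (-1) 1 1 (-1) 0 0),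
   (mk (-3) 2 0 (-1) 1 (-1) (-2) 2, mk 0 0 1 (-1) (-1) 1 0 0, mk (-2) 1 (-1) 1 2 (-1) (-1) 0),
   (mk (-3) 2 0 (-1) 1 (-1) (-2) 2, mk 0 0 1 (-1) (-1) 1 0 0, mk 2 (-1) 1 (-1) (-2) 1 1 0),
   (mk (-3) 2 0 (-1) 1 (-1) (-2) 2, mk (-1) 0 1 (-1) 0 0 (-1) 1, mk (-1) 1 1 (-1) (-1) 0 (-2) 1),
   (mk (-3) 2 0 (-1) 1 (-1) (-2) 2, mk (-1) 0 1 (-1) 0 0 (-1) 1, mk 1 (-1) (-1) 1 1 0 2 (-1)),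
   (mk (-3) 2 0 (-1) 1 (-1) (-2) 2, mk (-1) 1 1 (-1) (-1) 0 (-2) 1, mk (-1) 0 1 (-1) 0 0 (-1) 1),
   (mk (-3) 2 0 (-1) 1 (-1) (-2) 2, mk (-1) 1 1 (-1) (-1) 0 (-2) 1, mk 1 0 (-1) 1 0 0 1 (-1)),
   (mk (-3) 2 0 (-1) 1 (-1) (-2) 2, mk 1 (-1) (-1) 1 1 0 2 (-1), mk (-1) 0 1 (-1) 0 0 (-1) 1),
   (mk (-3) 2 0 (-1) 1 (-1) (-2) 2, mk 1 (-1) (-1) 1 1 0 2 (-1), mk 1 0 (-1) 1 0 0 1 (-1)),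
   (mk (-3) 2 0 (-1) 1 (-1) (-2) 2, mk 1 0 (-1) 1 0 0 1 (-1), mk (-1) 1 1 (-1) (-1) 0 (-2) 1),
   (mk (-3) 2 0 (-1) 1 (-1) (-2) 2, mk 1 0 (-1) 1 0 0 1 (-1), mk 1 (-1) (-1) 1 1 0 2 (-1)),
   (mk (-3) 2 0 (-1) 1 (-1) (-2) 2, mk 0 0 (-1) 1 1 (-1) 0 0, mk (-2) 1 (-1) 1 2 (-1) (-1) 0),
   (mk (-3) 2 0 (-1) 1 (-1) (-2) 2, mk 0 0 (-1) 1 1 (-1) 0 0, mk 2 (-1) 1 (-1) (-2) 1 1 0),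
   (mk (-3) 2 0 (-1) 1 (-1) (-2) 2, mk 2 (-1) 1 (-1) (-2) 1 1 0, mk 0 0 1 (-1) (-1) 1 0 0),
   (mk (-3) 2 0 (-1) 1 (-1) (-2) 2, mk 2 (-1) 1 (-1) (-2) 1 1 0, mk 0 0 (-1) 1 1 (-1) 0 0),
   (mk (-3) 2 0 0 1 (-1) (-2) 2, mk (-1) 0 (-2) 1 2 (-1) 1 0, mk (-1) 0 (-2) 1 2 (-1) 1 0),
   (mk (-3) 2 0 0 1 (-1) (-2) 2, mk (-1) 0 (-2) 1 2 (-1) 1 0, mk 1 0 2 (-1) (-2) 1 (-1) 0)]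

/-- A block of lines. -/
def lines1 : List (Ico × Ico × Ico) :=
  [(mk (-3) 2 0 0 1 (-1) (-2) 2, mk 0 0 1 0 (-1) 1 0 0, mk 0 0 1 0 (-1) 1 0 0),
   (mk (-3) 2 0 0 1 (-1) (-2) 2, mk 0 0 1 0 (-1) 1 0 0, mk 0 0 (-1) 0 1 (-1) 0 0),
   (mk (-3) 2 0 0 1 (-1) (-2) 2, mk 1 (-1) (-1) 1 0 0 1 (-1), mk 1 (-1) (-1) 1 0 0 1 (-1)),
   (mk (-3) 2 0 0 1 (-1) (-2) 2, mk 1 (-1) (-1) 1 0 0 1 (-1), mk (-1) 1 1 (-1) 0 0 (-1) 1),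
   (mk (-3) 2 0 0 1 (-1) (-2) 2, mk (-2) 1 0 0 1 0 (-2) 1, mk (-2) 1 0 0 1 0 (-2) 1),
   (mk (-3) 2 0 0 1 (-1) (-2) 2, mk (-2) 1 0 0 1 0 (-2) 1, mk 2 (-1) 0 0 (-1) 0 2 (-1)),
   (mk (-3) 2 0 0 1 (-1) (-2) 2, mk 2 (-1) 0 0 (-1) 0 2 (-1), mk (-2) 1 0 0 1 0 (-2) 1),
   (mk (-3) 2 0 0 1 (-1) (-2) 2, mk 2 (-1) 0 0 (-1) 0 2 (-1), mk 2 (-1) 0 0 (-1) 0 2 (-1)),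
   (mk (-3) 2 0 0 1 (-1) (-2) 2, mk (-1) 1 1 (-1) 0 0 (-1) 1, mk 1 (-1) (-1) 1 0 0 1 (-1)),
   (mk (-3) 2 0 0 1 (-1) (-2) 2, mk (-1) 1 1 (-1) 0 0 (-1) 1, mk (-1) 1 1 (-1) 0 0 (-1) 1),
   (mk (-3) 2 0 0 1 (-1) (-2) 2, mk 0 0 (-1) 0 1 (-1) 0 0, mk 0 0 1 0 (-1) 1 0 0),
   (mk (-3) 2 0 0 1 (-1) (-2) 2, mk 0 0 (-1) 0 1 (-1) 0 0, mk 0 0 (-1) 0 1 (-1) 0 0),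
   (mk (-3) 2 0 0 1 (-1) (-2) 2, mk 1 0 2 (-1) (-2) 1 (-1) 0, mk (-1) 0 (-2) 1 2 (-1) 1 0),
   (mk (-3) 2 0 0 1 (-1) (-2) 2, mk 1 0 2 (-1) (-2) 1 (-1) 0, mk 1 0 2 (-1) (-2) 1 (-1) 0),
   (mk (-2) 1 0 (-1) 1 (-1) (-2) 2, mk 0 0 2 (-1) (-2) 1 (-1) 0, mk 2 (-1) (-1) 0 (-1) 0 2 (-1)),
   (mk (-2) 1 0 (-1) 1 (-1) (-2) 2, mk 0 0 2 (-1) (-2) 1 (-1) 0, mk (-2) 1 1 0 1 0 (-2) 1),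
   (mk (-2) 1 0 (-1) 1 (-1) (-2) 2, mk (-1) 1 (-1) 1 1 (-1) 0 0, mk (-1) 0 0 0 0 0 (-1) 1),
   (mk (-2) 1 0 (-1) 1 (-1) (-2) 2, mk (-1) 1 (-1) 1 1 (-1) 0 0, mk 1 0 0 0 0 0 1 (-1)),
   (mk (-2) 1 0 (-1) 1 (-1) (-2) 2, mk (-1) 0 0 0 0 0 (-1) 1, mk (-1) 1 (-1) 1 1 (-1) 0 0),
   (mk (-2) 1 0 (-1) 1 (-1) (-2) 2, mk (-1) 0 0 0 0 0 (-1) 1, mk 1 (-1) 1 (-1) (-1) 1 0 0),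
   (mk (-2) 1 0 (-1) 1 (-1) (-2) 2, mk 2 (-1) (-1) 0 (-1) 0 2 (-1), mk 0 0 2 (-1) (-2) 1 (-1) 0),
   (mk (-2) 1 0 (-1) 1 (-1) (-2) 2, mk 2 (-1) (-1) 0 (-1) 0 2 (-1), mk 0 0 (-2) 1 2 (-1) 1 0),
   (mk (-2) 1 0 (-1) 1 (-1) (-2) 2, mk (-2) 1 1 0 1 0 (-2) 1, mk 0 0 2 (-1) (-2) 1 (-1) 0),
   (mk (-2) 1 0 (-1) 1 (-1) (-2) 2, mk (-2) 1 1 0 1 0 (-2) 1, mk 0 0 (-2) 1 2 (-1) 1 0),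
   (mk (-2) 1 0 (-1) 1 (-1) (-2) 2, mk 1 0 0 0 0 0 1 (-1), mk (-1) 1 (-1) 1 1 (-1) 0 0),
   (mk (-2) 1 0 (-1) 1 (-1) (-2) 2, mk 1 0 0 0 0 0 1 (-1), mk 1 (-1) 1 (-1) (-1) 1 0 0),
   (mk (-2) 1 0 (-1) 1 (-1) (-2) 2, mk 1 (-1) 1 (-1) (-1) 1 0 0, mk (-1) 0 0 0 0 0 (-1) 1),
   (mk (-2) 1 0 (-1) 1 (-1) (-2) 2, mk 1 (-1) 1 (-1) (-1) 1 0 0, mk 1 0 0 0 0 0 1 (-1)),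
   (mk (-2) 1 0 (-1) 1 (-1) (-2) 2, mk 0 0 (-2) 1 2 (-1) 1 0, mk 2 (-1) (-1) 0 (-1) 0 2 (-1)),
   (mk (-2) 1 0 (-1) 1 (-1) (-2) 2, mk 0 0 (-2) 1 2 (-1) 1 0, mk (-2) 1 1 0 1 0 (-2) 1),
   (mk (-2) 1 0 0 1 (-1) (-2) 2, mk 1 (-1) 1 (-1) (-2) 1 1 0, mk 1 (-1) 0 0 0 0 1 (-1)),
   (mk (-2) 1 0 0 1 (-1) (-2) 2, mk 1 (-1) 1 (-1) (-2) 1 1 0, mk (-1) 1 0 0 0 0 (-1) 1),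
   (mk (-2) 1 0 0 1 (-1) (-2) 2, mk (-1) 1 (-1) 0 1 (-1) 0 0, mk 1 (-1) (-2) 1 1 0 2 (-1)),
   (mk (-2) 1 0 0 1 (-1) (-2) 2, mk (-1) 1 (-1) 0 1 (-1) 0 0, mk (-1) 1 2 (-1) (-1) 0 (-2) 1),
   (mk (-2) 1 0 0 1 (-1) (-2) 2, mk 1 (-1) 0 0 0 0 1 (-1), mk 1 (-1) 1 (-1) (-2) 1 1 0),
   (mk (-2) 1 0 0 1 (-1) (-2) 2, mk 1 (-1) 0 0 0 0 1 (-1), mk (-1) 1 (-1) 1 2 (-1) (-1) 0),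
   (mk (-2) 1 0 0 1 (-1) (-2) 2, mk 1 (-1) (-2) 1 1 0 2 (-1), mk (-1) 1 (-1) 0 1 (-1) 0 0),
   (mk (-2) 1 0 0 1 (-1) (-2) 2, mk 1 (-1) (-2) 1 1 0 2 (-1), mk 1 (-1) 1 0 (-1) 1 0 0),
   (mk (-2) 1 0 0 1 (-1) (-2) 2, mk (-1) 1 2 (-1) (-1) 0 (-2) 1, mk (-1) 1 (-1) 0 1 (-1) 0 0),
   (mk (-2) 1 0 0 1 (-1) (-2) 2, mk (-1) 1 2 (-1) (-1) 0 (-2) 1, mk 1 (-1) 1 0 (-1) 1 0 0),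
   (mk (-2) 1 0 0 1 (-1) (-2) 2, mk (-1) 1 0 0 0 0 (-1) 1, mk 1 (-1) 1 (-1) (-2) 1 1 0),
   (mk (-2) 1 0 0 1 (-1) (-2) 2, mk (-1) 1 0 0 0 0 (-1) 1, mk (-1) 1 (-1) 1 2 (-1) (-1) 0),
   (mk (-2) 1 0 0 1 (-1) (-2) 2, mk 1 (-1) 1 0 (-1) 1 0 0, mk 1 (-1) (-2) 1 1 0 2 (-1)),
   (mk (-2) 1 0 0 1 (-1) (-2) 2, mk 1 (-1) 1 0 (-1) 1 0 0, mk (-1) 1 2 (-1) (-1) 0 (-2) 1),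
   (mk (-2) 1 0 0 1 (-1) (-2) 2, mk (-1) 1 (-1) 1 2 (-1) (-1) 0, mk 1 (-1) 0 0 0 0 1 (-1))]

/-- A block of lines. -/
def lines2 : List (Ico × Ico × Ico) :=
  [(mk (-2) 1 0 0 1 (-1) (-2) 2, mk (-1) 1 (-1) 1 2 (-1) (-1) 0, mk (-1) 1 0 0 0 0 (-1) 1),
   (mk (-2) 1 1 (-1) 0 0 (-2) 2, mk 1 (-1) (-3) 1 1 (-1) 3 (-1), mk 0 0 (-1) 0 0 0 0 0),
   (mk (-2) 1 1 (-1) 0 0 (-2) 2, mk 1 (-1) (-3) 1 1 (-1) 3 (-1), mk 0 0 1 0 0 0 0 0),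
   (mk (-2) 1 1 (-1) 0 0 (-2) 2, mk 1 (-1) 1 (-1) (-1) 1 1 (-1), mk 0 0 (-1) 0 0 0 0 0),
   (mk (-2) 1 1 (-1) 0 0 (-2) 2, mk 1 (-1) 1 (-1) (-1) 1 1 (-1), mk 0 0 1 0 0 0 0 0),
   (mk (-2) 1 1 (-1) 0 0 (-2) 2, mk 1 (-1) (-1) 1 1 (-1) 1 (-1), mk 0 0 (-1) 0 0 0 0 0),
   (mk (-2) 1 1 (-1) 0 0 (-2) 2, mk 1 (-1) (-1) 1 1 (-1) 1 (-1), mk 0 0 1 0 0 0 0 0),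
   (mk (-2) 1 1 (-1) 0 0 (-2) 2, mk 3 (-1) 1 (-1) (-3) 1 1 (-1), mk 0 0 (-1) 0 0 0 0 0),
   (mk (-2) 1 1 (-1) 0 0 (-2) 2, mk 3 (-1) 1 (-1) (-3) 1 1 (-1), mk 0 0 1 0 0 0 0 0),
   (mk (-2) 1 1 (-1) 0 0 (-2) 2, mk (-3) 1 (-1) 1 3 (-1) (-1) 1, mk 0 0 (-1) 0 0 0 0 0),
   (mk (-2) 1 1 (-1) 0 0 (-2) 2, mk (-3) 1 (-1) 1 3 (-1) (-1) 1, mk 0 0 1 0 0 0 0 0),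
   (mk (-2) 1 1 (-1) 0 0 (-2) 2, mk (-1) 1 1 (-1) (-1) 1 (-1) 1, mk 0 0 (-1) 0 0 0 0 0),
   (mk (-2) 1 1 (-1) 0 0 (-2) 2, mk (-1) 1 1 (-1) (-1) 1 (-1) 1, mk 0 0 1 0 0 0 0 0),
   (mk (-2) 1 1 (-1) 0 0 (-2) 2, mk (-1) 1 (-1) 1 1 (-1) (-1) 1, mk 0 0 (-1) 0 0 0 0 0),
   (mk (-2) 1 1 (-1) 0 0 (-2) 2, mk (-1) 1 (-1) 1 1 (-1) (-1) 1, mk 0 0 1 0 0 0 0 0),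
   (mk (-2) 1 1 (-1) 0 0 (-2) 2, mk (-1) 1 3 (-1) (-1) 1 (-3) 1, mk 0 0 (-1) 0 0 0 0 0),
   (mk (-2) 1 1 (-1) 0 0 (-2) 2, mk (-1) 1 3 (-1) (-1) 1 (-3) 1, mk 0 0 1 0 0 0 0 0),
   (mk (-2) 1 1 (-1) 0 0 (-2) 2, mk (-1) 0 (-3) 2 3 (-1) 1 (-1), mk 2 (-1) (-1) 1 0 0 2 (-2)),
   (mk (-2) 1 1 (-1) 0 0 (-2) 2, mk (-1) 0 (-3) 2 3 (-1) 1 (-1), mk (-2) 1 1 (-1) 0 0 (-2) 2),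
   (mk (-2) 1 1 (-1) 0 0 (-2) 2, mk 1 0 1 0 (-1) 1 1 (-1), mk 2 (-1) (-1) 1 0 0 2 (-2)),
   (mk (-2) 1 1 (-1) 0 0 (-2) 2, mk 1 0 1 0 (-1) 1 1 (-1), mk (-2) 1 1 (-1) 0 0 (-2) 2),
   (mk (-2) 1 1 (-1) 0 0 (-2) 2, mk (-1) 0 1 0 (-1) 1 (-1) 1, mk 2 (-1) (-1) 1 0 0 2 (-2)),
   (mk (-2) 1 1 (-1) 0 0 (-2) 2, mk (-1) 0 1 0 (-1) 1 (-1) 1, mk (-2) 1 1 (-1) 0 0 (-2) 2),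
   (mk (-2) 1 1 (-1) 0 0 (-2) 2, mk 3 (-2) (-1) 0 (-1) 1 3 (-1), mk 2 (-1) (-1) 1 0 0 2 (-2)),
   (mk (-2) 1 1 (-1) 0 0 (-2) 2, mk 3 (-2) (-1) 0 (-1) 1 3 (-1), mk (-2) 1 1 (-1) 0 0 (-2) 2),
   (mk (-2) 1 1 (-1) 0 0 (-2) 2, mk (-3) 2 1 0 1 (-1) (-3) 1, mk 2 (-1) (-1) 1 0 0 2 (-2)),
   (mk (-2) 1 1 (-1) 0 0 (-2) 2, mk (-3) 2 1 0 1 (-1) (-3) 1, mk (-2) 1 1 (-1) 0 0 (-2) 2),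
   (mk (-2) 1 1 (-1) 0 0 (-2) 2, mk 1 0 (-1) 0 1 (-1) 1 (-1), mk 2 (-1) (-1) 1 0 0 2 (-2)),
   (mk (-2) 1 1 (-1) 0 0 (-2) 2, mk 1 0 (-1) 0 1 (-1) 1 (-1), mk (-2) 1 1 (-1) 0 0 (-2) 2),
   (mk (-2) 1 1 (-1) 0 0 (-2) 2, mk (-1) 0 (-1) 0 1 (-1) (-1) 1, mk 2 (-1) (-1) 1 0 0 2 (-2)),
   (mk (-2) 1 1 (-1) 0 0 (-2) 2, mk (-1) 0 (-1) 0 1 (-1) (-1) 1, mk (-2) 1 1 (-1) 0 0 (-2) 2),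
   (mk (-2) 1 1 (-1) 0 0 (-2) 2, mk 1 0 3 (-2) (-3) 1 (-1) 1, mk 2 (-1) (-1) 1 0 0 2 (-2)),
   (mk (-2) 1 1 (-1) 0 0 (-2) 2, mk 1 0 3 (-2) (-3) 1 (-1) 1, mk (-2) 1 1 (-1) 0 0 (-2) 2),
   (mk (-2) 1 1 (-1) 0 0 (-2) 2, mk 0 0 2 (-2) (-3) 1 (-1) 1, mk 1 (-1) 2 (-1) (-2) 2 0 0),
   (mk (-2) 1 1 (-1) 0 0 (-2) 2, mk 0 0 2 (-2) (-3) 1 (-1) 1, mk (-1) 1 (-2) 1 2 (-2) 0 0),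
   (mk (-2) 1 1 (-1) 0 0 (-2) 2, mk (-2) 2 0 0 1 (-1) (-1) 1, mk 1 (-1) 2 (-1) (-2) 2 0 0),
   (mk (-2) 1 1 (-1) 0 0 (-2) 2, mk (-2) 2 0 0 1 (-1) (-1) 1, mk (-1) 1 (-2) 1 2 (-2) 0 0),
   (mk (-2) 1 1 (-1) 0 0 (-2) 2, mk 0 0 (-2) 2 1 (-1) 1 (-1), mk 1 (-1) 2 (-1) (-2) 2 0 0),
   (mk (-2) 1 1 (-1) 0 0 (-2) 2, mk 0 0 (-2) 2 1 (-1) 1 (-1), mk (-1) 1 (-2) 1 2 (-2) 0 0),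
   (mk (-2) 1 1 (-1) 0 0 (-2) 2, mk (-2) 2 0 0 1 (-1) (-3) 1, mk 1 (-1) 2 (-1) (-2) 2 0 0),
   (mk (-2) 1 1 (-1) 0 0 (-2) 2, mk (-2) 2 0 0 1 (-1) (-3) 1, mk (-1) 1 (-2) 1 2 (-2) 0 0),
   (mk (-2) 1 1 (-1) 0 0 (-2) 2, mk 2 (-2) 0 0 (-1) 1 3 (-1), mk 1 (-1) 2 (-1) (-2) 2 0 0),
   (mk (-2) 1 1 (-1) 0 0 (-2) 2, mk 2 (-2) 0 0 (-1) 1 3 (-1), mk (-1) 1 (-2) 1 2 (-2) 0 0),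
   (mk (-2) 1 1 (-1) 0 0 (-2) 2, mk 0 0 2 (-2) (-1) 1 (-1) 1, mk 1 (-1) 2 (-1) (-2) 2 0 0),
   (mk (-2) 1 1 (-1) 0 0 (-2) 2, mk 0 0 2 (-2) (-1) 1 (-1) 1, mk (-1) 1 (-2) 1 2 (-2) 0 0)]

/-- A block of lines. -/
def lines3 : List (Ico × Ico × Ico) :=
  [(mk (-2) 1 1 (-1) 0 0 (-2) 2, mk 2 (-2) 0 0 (-1) 1 1 (-1), mk 1 (-1) 2 (-1) (-2) 2 0 0),
   (mk (-2) 1 1 (-1) 0 0 (-2) 2, mk 2 (-2) 0 0 (-1) 1 1 (-1), mk (-1) 1 (-2) 1 2 (-2) 0 0),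
   (mk (-2) 1 1 (-1) 0 0 (-2) 2, mk 0 0 (-2) 2 3 (-1) 1 (-1), mk 1 (-1) 2 (-1) (-2) 2 0 0),
   (mk (-2) 1 1 (-1) 0 0 (-2) 2, mk 0 0 (-2) 2 3 (-1) 1 (-1), mk (-1) 1 (-2) 1 2 (-2) 0 0),
   (mk (-2) 1 1 (-1) 0 0 (-2) 2, mk (-2) 1 2 (-1) (-1) 1 (-3) 1, mk (-1) 0 0 0 0 0 0 0),
   (mk (-2) 1 1 (-1) 0 0 (-2) 2, mk (-2) 1 2 (-1) (-1) 1 (-3) 1, mk 1 0 0 0 0 0 0 0),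
   (mk (-2) 1 1 (-1) 0 0 (-2) 2, mk (-2) 1 0 (-1) 1 (-1) (-1) 1, mk (-1) 0 0 0 0 0 0 0),
   (mk (-2) 1 1 (-1) 0 0 (-2) 2, mk (-2) 1 0 (-1) 1 (-1) (-1) 1, mk 1 0 0 0 0 0 0 0),
   (mk (-2) 1 1 (-1) 0 0 (-2) 2, mk 0 (-1) 2 (-1) (-1) 1 (-1) 1, mk (-1) 0 0 0 0 0 0 0),
   (mk (-2) 1 1 (-1) 0 0 (-2) 2, mk 0 (-1) 2 (-1) (-1) 1 (-1) 1, mk 1 0 0 0 0 0 0 0),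
   (mk (-2) 1 1 (-1) 0 0 (-2) 2, mk (-2) 1 (-2) 1 3 (-1) (-1) 1, mk (-1) 0 0 0 0 0 0 0),
   (mk (-2) 1 1 (-1) 0 0 (-2) 2, mk (-2) 1 (-2) 1 3 (-1) (-1) 1, mk 1 0 0 0 0 0 0 0),
   (mk (-2) 1 1 (-1) 0 0 (-2) 2, mk 2 (-1) 2 (-1) (-3) 1 1 (-1), mk (-1) 0 0 0 0 0 0 0),
   (mk (-2) 1 1 (-1) 0 0 (-2) 2, mk 2 (-1) 2 (-1) (-3) 1 1 (-1), mk 1 0 0 0 0 0 0 0),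
   (mk (-2) 1 1 (-1) 0 0 (-2) 2, mk 0 1 (-2) 1 1 (-1) 1 (-1), mk (-1) 0 0 0 0 0 0 0),
   (mk (-2) 1 1 (-1) 0 0 (-2) 2, mk 0 1 (-2) 1 1 (-1) 1 (-1), mk 1 0 0 0 0 0 0 0),
   (mk (-2) 1 1 (-1) 0 0 (-2) 2, mk 2 (-1) 0 1 (-1) 1 1 (-1), mk (-1) 0 0 0 0 0 0 0),
   (mk (-2) 1 1 (-1) 0 0 (-2) 2, mk 2 (-1) 0 1 (-1) 1 1 (-1), mk 1 0 0 0 0 0 0 0),
   (mk (-2) 1 1 (-1) 0 0 (-2) 2, mk 2 (-1) (-2) 1 1 (-1) 3 (-1), mk (-1) 0 0 0 0 0 0 0),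
   (mk (-2) 1 1 (-1) 0 0 (-2) 2, mk 2 (-1) (-2) 1 1 (-1) 3 (-1), mk 1 0 0 0 0 0 0 0),
   (mk (-2) 1 1 (-1) 0 0 (-2) 2, mk (-1) 0 0 0 0 0 0 0, mk (-2) 1 2 (-1) (-1) 1 (-3) 1),
   (mk (-2) 1 1 (-1) 0 0 (-2) 2, mk (-1) 0 0 0 0 0 0 0, mk (-2) 1 0 (-1) 1 (-1) (-1) 1),
   (mk (-2) 1 1 (-1) 0 0 (-2) 2, mk (-1) 0 0 0 0 0 0 0, mk 0 (-1) 2 (-1) (-1) 1 (-1) 1),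
   (mk (-2) 1 1 (-1) 0 0 (-2) 2, mk (-1) 0 0 0 0 0 0 0, mk (-2) 1 (-2) 1 3 (-1) (-1) 1),
   (mk (-2) 1 1 (-1) 0 0 (-2) 2, mk (-1) 0 0 0 0 0 0 0, mk 2 (-1) 2 (-1) (-3) 1 1 (-1)),
   (mk (-2) 1 1 (-1) 0 0 (-2) 2, mk (-1) 0 0 0 0 0 0 0, mk 0 1 (-2) 1 1 (-1) 1 (-1)),
   (mk (-2) 1 1 (-1) 0 0 (-2) 2, mk (-1) 0 0 0 0 0 0 0, mk 2 (-1) 0 1 (-1) 1 1 (-1)),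
   (mk (-2) 1 1 (-1) 0 0 (-2) 2, mk (-1) 0 0 0 0 0 0 0, mk 2 (-1) (-2) 1 1 (-1) 3 (-1)),
   (mk (-2) 1 1 (-1) 0 0 (-2) 2, mk 0 0 (-1) 0 0 0 0 0, mk 1 (-1) (-3) 1 1 (-1) 3 (-1)),
   (mk (-2) 1 1 (-1) 0 0 (-2) 2, mk 0 0 (-1) 0 0 0 0 0, mk 1 (-1) 1 (-1) (-1) 1 1 (-1)),
   (mk (-2) 1 1 (-1) 0 0 (-2) 2, mk 0 0 (-1) 0 0 0 0 0, mk 1 (-1) (-1) 1 1 (-1) 1 (-1)),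
   (mk (-2) 1 1 (-1) 0 0 (-2) 2, mk 0 0 (-1) 0 0 0 0 0, mk 3 (-1) 1 (-1) (-3) 1 1 (-1)),
   (mk (-2) 1 1 (-1) 0 0 (-2) 2, mk 0 0 (-1) 0 0 0 0 0, mk (-3) 1 (-1) 1 3 (-1) (-1) 1),
   (mk (-2) 1 1 (-1) 0 0 (-2) 2, mk 0 0 (-1) 0 0 0 0 0, mk (-1) 1 1 (-1) (-1) 1 (-1) 1),
   (mk (-2) 1 1 (-1) 0 0 (-2) 2, mk 0 0 (-1) 0 0 0 0 0, mk (-1) 1 (-1) 1 1 (-1) (-1) 1),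
   (mk (-2) 1 1 (-1) 0 0 (-2) 2, mk 0 0 (-1) 0 0 0 0 0, mk (-1) 1 3 (-1) (-1) 1 (-3) 1),
   (mk (-2) 1 1 (-1) 0 0 (-2) 2, mk 2 (-1) (-1) 1 0 0 2 (-2), mk (-1) 0 (-3) 2 3 (-1) 1 (-1)),
   (mk (-2) 1 1 (-1) 0 0 (-2) 2, mk 2 (-1) (-1) 1 0 0 2 (-2), mk 1 0 1 0 (-1) 1 1 (-1)),
   (mk (-2) 1 1 (-1) 0 0 (-2) 2, mk 2 (-1) (-1) 1 0 0 2 (-2), mk (-1) 0 1 0 (-1) 1 (-1) 1),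
   (mk (-2) 1 1 (-1) 0 0 (-2) 2, mk 2 (-1) (-1) 1 0 0 2 (-2), mk 3 (-2) (-1) 0 (-1) 1 3 (-1)),
   (mk (-2) 1 1 (-1) 0 0 (-2) 2, mk 2 (-1) (-1) 1 0 0 2 (-2), mk (-3) 2 1 0 1 (-1) (-3) 1),
   (mk (-2) 1 1 (-1) 0 0 (-2) 2, mk 2 (-1) (-1) 1 0 0 2 (-2), mk 1 0 (-1) 0 1 (-1) 1 (-1)),
   (mk (-2) 1 1 (-1) 0 0 (-2) 2, mk 2 (-1) (-1) 1 0 0 2 (-2), mk (-1) 0 (-1) 0 1 (-1) (-1) 1),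
   (mk (-2) 1 1 (-1) 0 0 (-2) 2, mk 2 (-1) (-1) 1 0 0 2 (-2), mk 1 0 3 (-2) (-3) 1 (-1) 1),
   (mk (-2) 1 1 (-1) 0 0 (-2) 2, mk 1 (-1) 2 (-1) (-2) 2 0 0, mk 0 0 2 (-2) (-3) 1 (-1) 1)]

/-- A block of lines. -/
def lines4 : List (Ico × Ico × Ico) :=
  [(mk (-2) 1 1 (-1) 0 0 (-2) 2, mk 1 (-1) 2 (-1) (-2) 2 0 0, mk (-2) 2 0 0 1 (-1) (-1) 1),
   (mk (-2) 1 1 (-1) 0 0 (-2) 2, mk 1 (-1) 2 (-1) (-2) 2 0 0, mk 0 0 (-2) 2 1 (-1) 1 (-1)),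
   (mk (-2) 1 1 (-1) 0 0 (-2) 2, mk 1 (-1) 2 (-1) (-2) 2 0 0, mk (-2) 2 0 0 1 (-1) (-3) 1),
   (mk (-2) 1 1 (-1) 0 0 (-2) 2, mk 1 (-1) 2 (-1) (-2) 2 0 0, mk 2 (-2) 0 0 (-1) 1 3 (-1)),
   (mk (-2) 1 1 (-1) 0 0 (-2) 2, mk 1 (-1) 2 (-1) (-2) 2 0 0, mk 0 0 2 (-2) (-1) 1 (-1) 1),
   (mk (-2) 1 1 (-1) 0 0 (-2) 2, mk 1 (-1) 2 (-1) (-2) 2 0 0, mk 2 (-2) 0 0 (-1) 1 1 (-1)),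
   (mk (-2) 1 1 (-1) 0 0 (-2) 2, mk 1 (-1) 2 (-1) (-2) 2 0 0, mk 0 0 (-2) 2 3 (-1) 1 (-1)),
   (mk (-2) 1 1 (-1) 0 0 (-2) 2, mk (-1) 1 (-2) 1 2 (-2) 0 0, mk 0 0 2 (-2) (-3) 1 (-1) 1),
   (mk (-2) 1 1 (-1) 0 0 (-2) 2, mk (-1) 1 (-2) 1 2 (-2) 0 0, mk (-2) 2 0 0 1 (-1) (-1) 1),
   (mk (-2) 1 1 (-1) 0 0 (-2) 2, mk (-1) 1 (-2) 1 2 (-2) 0 0, mk 0 0 (-2) 2 1 (-1) 1 (-1)),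
   (mk (-2) 1 1 (-1) 0 0 (-2) 2, mk (-1) 1 (-2) 1 2 (-2) 0 0, mk (-2) 2 0 0 1 (-1) (-3) 1),
   (mk (-2) 1 1 (-1) 0 0 (-2) 2, mk (-1) 1 (-2) 1 2 (-2) 0 0, mk 2 (-2) 0 0 (-1) 1 3 (-1)),
   (mk (-2) 1 1 (-1) 0 0 (-2) 2, mk (-1) 1 (-2) 1 2 (-2) 0 0, mk 0 0 2 (-2) (-1) 1 (-1) 1),
   (mk (-2) 1 1 (-1) 0 0 (-2) 2, mk (-1) 1 (-2) 1 2 (-2) 0 0, mk 2 (-2) 0 0 (-1) 1 1 (-1)),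
   (mk (-2) 1 1 (-1) 0 0 (-2) 2, mk (-1) 1 (-2) 1 2 (-2) 0 0, mk 0 0 (-2) 2 3 (-1) 1 (-1)),
   (mk (-2) 1 1 (-1) 0 0 (-2) 2, mk (-2) 1 1 (-1) 0 0 (-2) 2, mk (-1) 0 (-3) 2 3 (-1) 1 (-1)),
   (mk (-2) 1 1 (-1) 0 0 (-2) 2, mk (-2) 1 1 (-1) 0 0 (-2) 2, mk 1 0 1 0 (-1) 1 1 (-1)),
   (mk (-2) 1 1 (-1) 0 0 (-2) 2, mk (-2) 1 1 (-1) 0 0 (-2) 2, mk (-1) 0 1 0 (-1) 1 (-1) 1),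
   (mk (-2) 1 1 (-1) 0 0 (-2) 2, mk (-2) 1 1 (-1) 0 0 (-2) 2, mk 3 (-2) (-1) 0 (-1) 1 3 (-1)),
   (mk (-2) 1 1 (-1) 0 0 (-2) 2, mk (-2) 1 1 (-1) 0 0 (-2) 2, mk (-3) 2 1 0 1 (-1) (-3) 1),
   (mk (-2) 1 1 (-1) 0 0 (-2) 2, mk (-2) 1 1 (-1) 0 0 (-2) 2, mk 1 0 (-1) 0 1 (-1) 1 (-1)),
   (mk (-2) 1 1 (-1) 0 0 (-2) 2, mk (-2) 1 1 (-1) 0 0 (-2) 2, mk (-1) 0 (-1) 0 1 (-1) (-1) 1),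
   (mk (-2) 1 1 (-1) 0 0 (-2) 2, mk (-2) 1 1 (-1) 0 0 (-2) 2, mk 1 0 3 (-2) (-3) 1 (-1) 1),
   (mk (-2) 1 1 (-1) 0 0 (-2) 2, mk 0 0 1 0 0 0 0 0, mk 1 (-1) (-3) 1 1 (-1) 3 (-1)),
   (mk (-2) 1 1 (-1) 0 0 (-2) 2, mk 0 0 1 0 0 0 0 0, mk 1 (-1) 1 (-1) (-1) 1 1 (-1)),
   (mk (-2) 1 1 (-1) 0 0 (-2) 2, mk 0 0 1 0 0 0 0 0, mk 1 (-1) (-1) 1 1 (-1) 1 (-1)),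
   (mk (-2) 1 1 (-1) 0 0 (-2) 2, mk 0 0 1 0 0 0 0 0, mk 3 (-1) 1 (-1) (-3) 1 1 (-1)),
   (mk (-2) 1 1 (-1) 0 0 (-2) 2, mk 0 0 1 0 0 0 0 0, mk (-3) 1 (-1) 1 3 (-1) (-1) 1),
   (mk (-2) 1 1 (-1) 0 0 (-2) 2, mk 0 0 1 0 0 0 0 0, mk (-1) 1 1 (-1) (-1) 1 (-1) 1),
   (mk (-2) 1 1 (-1) 0 0 (-2) 2, mk 0 0 1 0 0 0 0 0, mk (-1) 1 (-1) 1 1 (-1) (-1) 1),
   (mk (-2) 1 1 (-1) 0 0 (-2) 2, mk 0 0 1 0 0 0 0 0, mk (-1) 1 3 (-1) (-1) 1 (-3) 1),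
   (mk (-2) 1 1 (-1) 0 0 (-2) 2, mk 1 0 0 0 0 0 0 0, mk (-2) 1 2 (-1) (-1) 1 (-3) 1),
   (mk (-2) 1 1 (-1) 0 0 (-2) 2, mk 1 0 0 0 0 0 0 0, mk (-2) 1 0 (-1) 1 (-1) (-1) 1),
   (mk (-2) 1 1 (-1) 0 0 (-2) 2, mk 1 0 0 0 0 0 0 0, mk 0 (-1) 2 (-1) (-1) 1 (-1) 1),
   (mk (-2) 1 1 (-1) 0 0 (-2) 2, mk 1 0 0 0 0 0 0 0, mk (-2) 1 (-2) 1 3 (-1) (-1) 1),
   (mk (-2) 1 1 (-1) 0 0 (-2) 2, mk 1 0 0 0 0 0 0 0, mk 2 (-1) 2 (-1) (-3) 1 1 (-1)),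
   (mk (-2) 1 1 (-1) 0 0 (-2) 2, mk 1 0 0 0 0 0 0 0, mk 0 1 (-2) 1 1 (-1) 1 (-1)),
   (mk (-2) 1 1 (-1) 0 0 (-2) 2, mk 1 0 0 0 0 0 0 0, mk 2 (-1) 0 1 (-1) 1 1 (-1)),
   (mk (-2) 1 1 (-1) 0 0 (-2) 2, mk 1 0 0 0 0 0 0 0, mk 2 (-1) (-2) 1 1 (-1) 3 (-1)),
   (mk (-2) 1 1 (-1) 0 0 (-2) 2, mk (-3) 2 (-1) 1 2 (-1) (-2) 1, mk 0 (-1) (-1) 0 1 0 1 0),
   (mk (-2) 1 1 (-1) 0 0 (-2) 2, mk (-3) 2 (-1) 1 2 (-1) (-2) 1, mk 0 1 1 0 (-1) 0 (-1) 0),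
   (mk (-2) 1 1 (-1) 0 0 (-2) 2, mk 0 0 (-2) 1 2 (-1) 2 (-1), mk (-1) 1 0 0 1 0 (-1) 0),
   (mk (-2) 1 1 (-1) 0 0 (-2) 2, mk 0 0 (-2) 1 2 (-1) 2 (-1), mk 1 (-1) 0 0 (-1) 0 1 0),
   (mk (-2) 1 1 (-1) 0 0 (-2) 2, mk 1 (-1) (-3) 2 2 (-1) 2 (-1), mk 0 0 1 (-1) (-1) 0 (-1) 0),
   (mk (-2) 1 1 (-1) 0 0 (-2) 2, mk 1 (-1) (-3) 2 2 (-1) 2 (-1), mk 0 0 (-1) 1 1 0 1 0)]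

/-- A block of lines. -/
def lines5 : List (Ico × Ico × Ico) :=
  [(mk (-2) 1 1 (-1) 0 0 (-2) 2, mk 2 (-1) 0 0 (-2) 1 2 (-1), mk (-1) 0 0 1 1 0 (-1) 0),
   (mk (-2) 1 1 (-1) 0 0 (-2) 2, mk 2 (-1) 0 0 (-2) 1 2 (-1), mk 1 0 0 (-1) (-1) 0 1 0),
   (mk (-2) 1 1 (-1) 0 0 (-2) 2, mk (-2) 1 0 0 2 (-1) (-2) 1, mk (-1) 0 0 1 1 0 (-1) 0),
   (mk (-2) 1 1 (-1) 0 0 (-2) 2, mk (-2) 1 0 0 2 (-1) (-2) 1, mk 1 0 0 (-1) (-1) 0 1 0),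
   (mk (-2) 1 1 (-1) 0 0 (-2) 2, mk (-1) 1 3 (-2) (-2) 1 (-2) 1, mk 0 0 1 (-1) (-1) 0 (-1) 0),
   (mk (-2) 1 1 (-1) 0 0 (-2) 2, mk (-1) 1 3 (-2) (-2) 1 (-2) 1, mk 0 0 (-1) 1 1 0 1 0),
   (mk (-2) 1 1 (-1) 0 0 (-2) 2, mk 0 0 2 (-1) (-2) 1 (-2) 1, mk (-1) 1 0 0 1 0 (-1) 0),
   (mk (-2) 1 1 (-1) 0 0 (-2) 2, mk 0 0 2 (-1) (-2) 1 (-2) 1, mk 1 (-1) 0 0 (-1) 0 1 0),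
   (mk (-2) 1 1 (-1) 0 0 (-2) 2, mk 3 (-2) 1 (-1) (-2) 1 2 (-1), mk 0 (-1) (-1) 0 1 0 1 0),
   (mk (-2) 1 1 (-1) 0 0 (-2) 2, mk 3 (-2) 1 (-1) (-2) 1 2 (-1), mk 0 1 1 0 (-1) 0 (-1) 0),
   (mk (-2) 1 1 (-1) 0 0 (-2) 2, mk 0 0 1 (-1) (-1) 0 (-1) 0, mk 1 (-1) (-3) 2 2 (-1) 2 (-1)),
   (mk (-2) 1 1 (-1) 0 0 (-2) 2, mk 0 0 1 (-1) (-1) 0 (-1) 0, mk (-1) 1 3 (-2) (-2) 1 (-2) 1),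
   (mk (-2) 1 1 (-1) 0 0 (-2) 2, mk (-1) 1 0 0 1 0 (-1) 0, mk 0 0 (-2) 1 2 (-1) 2 (-1)),
   (mk (-2) 1 1 (-1) 0 0 (-2) 2, mk (-1) 1 0 0 1 0 (-1) 0, mk 0 0 2 (-1) (-2) 1 (-2) 1),
   (mk (-2) 1 1 (-1) 0 0 (-2) 2, mk (-1) 0 0 1 1 0 (-1) 0, mk 2 (-1) 0 0 (-2) 1 2 (-1)),
   (mk (-2) 1 1 (-1) 0 0 (-2) 2, mk (-1) 0 0 1 1 0 (-1) 0, mk (-2) 1 0 0 2 (-1) (-2) 1),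
   (mk (-2) 1 1 (-1) 0 0 (-2) 2, mk 0 (-1) (-1) 0 1 0 1 0, mk (-3) 2 (-1) 1 2 (-1) (-2) 1),
   (mk (-2) 1 1 (-1) 0 0 (-2) 2, mk 0 (-1) (-1) 0 1 0 1 0, mk 3 (-2) 1 (-1) (-2) 1 2 (-1)),
   (mk (-2) 1 1 (-1) 0 0 (-2) 2, mk 0 1 1 0 (-1) 0 (-1) 0, mk (-3) 2 (-1) 1 2 (-1) (-2) 1),
   (mk (-2) 1 1 (-1) 0 0 (-2) 2, mk 0 1 1 0 (-1) 0 (-1) 0, mk 3 (-2) 1 (-1) (-2) 1 2 (-1)),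
   (mk (-2) 1 1 (-1) 0 0 (-2) 2, mk 1 0 0 (-1) (-1) 0 1 0, mk 2 (-1) 0 0 (-2) 1 2 (-1)),
   (mk (-2) 1 1 (-1) 0 0 (-2) 2, mk 1 0 0 (-1) (-1) 0 1 0, mk (-2) 1 0 0 2 (-1) (-2) 1),
   (mk (-2) 1 1 (-1) 0 0 (-2) 2, mk 1 (-1) 0 0 (-1) 0 1 0, mk 0 0 (-2) 1 2 (-1) 2 (-1)),
   (mk (-2) 1 1 (-1) 0 0 (-2) 2, mk 1 (-1) 0 0 (-1) 0 1 0, mk 0 0 2 (-1) (-2) 1 (-2) 1),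
   (mk (-2) 1 1 (-1) 0 0 (-2) 2, mk 0 0 (-1) 1 1 0 1 0, mk 1 (-1) (-3) 2 2 (-1) 2 (-1)),
   (mk (-2) 1 1 (-1) 0 0 (-2) 2, mk 0 0 (-1) 1 1 0 1 0, mk (-1) 1 3 (-2) (-2) 1 (-2) 1),
   (mk (-3) 2 0 0 1 (-1) (-3) 2, mk 1 (-1) (-1) 1 0 0 2 (-1), mk (-1) 0 1 (-1) (-1) 0 (-1) 1),
   (mk (-3) 2 0 0 1 (-1) (-3) 2, mk 1 (-1) (-1) 1 0 0 2 (-1), mk 1 0 (-1) 1 1 0 1 (-1)),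
   (mk (-3) 2 0 0 1 (-1) (-3) 2, mk (-2) 1 0 0 1 0 (-1) 1, mk 0 0 0 0 0 0 0 (-1)),
   (mk (-3) 2 0 0 1 (-1) (-3) 2, mk (-2) 1 0 0 1 0 (-1) 1, mk 0 0 0 0 0 0 0 1),
   (mk (-3) 2 0 0 1 (-1) (-3) 2, mk (-1) 0 (-2) 1 2 (-1) 0 0, mk (-1) 1 0 1 1 (-1) (-1) 0),
   (mk (-3) 2 0 0 1 (-1) (-3) 2, mk (-1) 0 (-2) 1 2 (-1) 0 0, mk 1 (-1) 0 (-1) (-1) 1 1 0),
   (mk (-3) 2 0 0 1 (-1) (-3) 2, mk 0 0 1 0 (-1) 1 (-1) 0, mk 0 (-1) 1 0 0 1 0 0),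
   (mk (-3) 2 0 0 1 (-1) (-3) 2, mk 0 0 1 0 (-1) 1 (-1) 0, mk 0 1 (-1) 0 0 (-1) 0 0),
   (mk (-3) 2 0 0 1 (-1) (-3) 2, mk 0 0 (-1) 0 1 (-1) 1 0, mk 0 (-1) 1 0 0 1 0 0),
   (mk (-3) 2 0 0 1 (-1) (-3) 2, mk 0 0 (-1) 0 1 (-1) 1 0, mk 0 1 (-1) 0 0 (-1) 0 0),
   (mk (-3) 2 0 0 1 (-1) (-3) 2, mk 1 0 2 (-1) (-2) 1 0 0, mk (-1) 1 0 1 1 (-1) (-1) 0),
   (mk (-3) 2 0 0 1 (-1) (-3) 2, mk 1 0 2 (-1) (-2) 1 0 0, mk 1 (-1) 0 (-1) (-1) 1 1 0),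
   (mk (-3) 2 0 0 1 (-1) (-3) 2, mk 2 (-1) 0 0 (-1) 0 1 (-1), mk 0 0 0 0 0 0 0 (-1)),
   (mk (-3) 2 0 0 1 (-1) (-3) 2, mk 2 (-1) 0 0 (-1) 0 1 (-1), mk 0 0 0 0 0 0 0 1),
   (mk (-3) 2 0 0 1 (-1) (-3) 2, mk (-1) 1 1 (-1) 0 0 (-2) 1, mk (-1) 0 1 (-1) (-1) 0 (-1) 1),
   (mk (-3) 2 0 0 1 (-1) (-3) 2, mk (-1) 1 1 (-1) 0 0 (-2) 1, mk 1 0 (-1) 1 1 0 1 (-1)),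
   (mk (-3) 2 0 0 1 (-1) (-3) 2, mk 0 0 0 0 0 0 0 (-1), mk (-2) 1 0 0 1 0 (-1) 1),
   (mk (-3) 2 0 0 1 (-1) (-3) 2, mk 0 0 0 0 0 0 0 (-1), mk 2 (-1) 0 0 (-1) 0 1 (-1)),
   (mk (-3) 2 0 0 1 (-1) (-3) 2, mk (-1) 0 1 (-1) (-1) 0 (-1) 1, mk 1 (-1) (-1) 1 0 0 2 (-1))]

/-- A block of lines. -/
def lines6 : List (Ico × Ico × Ico) :=
  [(mk (-3) 2 0 0 1 (-1) (-3) 2, mk (-1) 0 1 (-1) (-1) 0 (-1) 1, mk (-1) 1 1 (-1) 0 0 (-2) 1),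
   (mk (-3) 2 0 0 1 (-1) (-3) 2, mk (-1) 1 0 1 1 (-1) (-1) 0, mk (-1) 0 (-2) 1 2 (-1) 0 0),
   (mk (-3) 2 0 0 1 (-1) (-3) 2, mk (-1) 1 0 1 1 (-1) (-1) 0, mk 1 0 2 (-1) (-2) 1 0 0),
   (mk (-3) 2 0 0 1 (-1) (-3) 2, mk 0 (-1) 1 0 0 1 0 0, mk 0 0 1 0 (-1) 1 (-1) 0),
   (mk (-3) 2 0 0 1 (-1) (-3) 2, mk 0 (-1) 1 0 0 1 0 0, mk 0 0 (-1) 0 1 (-1) 1 0),
   (mk (-3) 2 0 0 1 (-1) (-3) 2, mk 0 1 (-1) 0 0 (-1) 0 0, mk 0 0 1 0 (-1) 1 (-1) 0),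
   (mk (-3) 2 0 0 1 (-1) (-3) 2, mk 0 1 (-1) 0 0 (-1) 0 0, mk 0 0 (-1) 0 1 (-1) 1 0),
   (mk (-3) 2 0 0 1 (-1) (-3) 2, mk 1 (-1) 0 (-1) (-1) 1 1 0, mk (-1) 0 (-2) 1 2 (-1) 0 0),
   (mk (-3) 2 0 0 1 (-1) (-3) 2, mk 1 (-1) 0 (-1) (-1) 1 1 0, mk 1 0 2 (-1) (-2) 1 0 0),
   (mk (-3) 2 0 0 1 (-1) (-3) 2, mk 1 0 (-1) 1 1 0 1 (-1), mk 1 (-1) (-1) 1 0 0 2 (-1)),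
   (mk (-3) 2 0 0 1 (-1) (-3) 2, mk 1 0 (-1) 1 1 0 1 (-1), mk (-1) 1 1 (-1) 0 0 (-2) 1),
   (mk (-3) 2 0 0 1 (-1) (-3) 2, mk 0 0 0 0 0 0 0 1, mk (-2) 1 0 0 1 0 (-1) 1),
   (mk (-3) 2 0 0 1 (-1) (-3) 2, mk 0 0 0 0 0 0 0 1, mk 2 (-1) 0 0 (-1) 0 1 (-1)),
   (mk (-1) 0 (-1) 0 1 (-1) 0 1, mk 0 0 1 (-1) (-1) 0 0 0, mk 2 (-1) (-1) 1 0 0 3 (-2)),
   (mk (-1) 0 (-1) 0 1 (-1) 0 1, mk 0 0 1 (-1) (-1) 0 0 0, mk (-2) 1 1 (-1) 0 0 (-3) 2),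
   (mk (-1) 0 (-1) 0 1 (-1) 0 1, mk 0 0 (-1) 0 0 0 1 0, mk (-2) 1 (-3) 2 3 (-2) 0 0),
   (mk (-1) 0 (-1) 0 1 (-1) 0 1, mk 0 0 (-1) 0 0 0 1 0, mk 2 (-1) 3 (-2) (-3) 2 0 0),
   (mk (-1) 0 (-1) 0 1 (-1) 0 1, mk 2 (-2) 0 0 (-1) 1 2 (-1), mk (-2) 1 0 0 2 (-1) (-1) 1),
   (mk (-1) 0 (-1) 0 1 (-1) 0 1, mk 2 (-2) 0 0 (-1) 1 2 (-1), mk 2 (-1) 0 0 (-2) 1 1 (-1)),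
   (mk (-1) 0 (-1) 0 1 (-1) 0 1, mk 0 0 (-2) 1 2 (-1) 1 (-1), mk (-2) 1 2 (-1) (-1) 1 (-2) 1),
   (mk (-1) 0 (-1) 0 1 (-1) 0 1, mk 0 0 (-2) 1 2 (-1) 1 (-1), mk 2 (-1) (-2) 1 1 (-1) 2 (-1)),
   (mk (-1) 0 (-1) 0 1 (-1) 0 1, mk 0 0 2 (-1) (-2) 1 (-1) 1, mk (-2) 1 2 (-1) (-1) 1 (-2) 1),
   (mk (-1) 0 (-1) 0 1 (-1) 0 1, mk 0 0 2 (-1) (-2) 1 (-1) 1, mk 2 (-1) (-2) 1 1 (-1) 2 (-1)),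
   (mk (-1) 0 (-1) 0 1 (-1) 0 1, mk (-2) 2 0 0 1 (-1) (-2) 1, mk (-2) 1 0 0 2 (-1) (-1) 1),
   (mk (-1) 0 (-1) 0 1 (-1) 0 1, mk (-2) 2 0 0 1 (-1) (-2) 1, mk 2 (-1) 0 0 (-2) 1 1 (-1)),
   (mk (-1) 0 (-1) 0 1 (-1) 0 1, mk 0 0 1 0 0 0 (-1) 0, mk (-2) 1 (-3) 2 3 (-2) 0 0),
   (mk (-1) 0 (-1) 0 1 (-1) 0 1, mk 0 0 1 0 0 0 (-1) 0, mk 2 (-1) 3 (-2) (-3) 2 0 0),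
   (mk (-1) 0 (-1) 0 1 (-1) 0 1, mk 0 0 (-1) 1 1 0 0 0, mk 2 (-1) (-1) 1 0 0 3 (-2)),
   (mk (-1) 0 (-1) 0 1 (-1) 0 1, mk 0 0 (-1) 1 1 0 0 0, mk (-2) 1 1 (-1) 0 0 (-3) 2),
   (mk (-1) 0 (-1) 0 1 (-1) 0 1, mk (-2) 1 (-3) 2 3 (-2) 0 0, mk 0 0 (-1) 0 0 0 1 0),
   (mk (-1) 0 (-1) 0 1 (-1) 0 1, mk (-2) 1 (-3) 2 3 (-2) 0 0, mk 0 0 1 0 0 0 (-1) 0),
   (mk (-1) 0 (-1) 0 1 (-1) 0 1, mk (-2) 1 2 (-1) (-1) 1 (-2) 1, mk 0 0 (-2) 1 2 (-1) 1 (-1)),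
   (mk (-1) 0 (-1) 0 1 (-1) 0 1, mk (-2) 1 2 (-1) (-1) 1 (-2) 1, mk 0 0 2 (-1) (-2) 1 (-1) 1),
   (mk (-1) 0 (-1) 0 1 (-1) 0 1, mk 2 (-1) (-1) 1 0 0 3 (-2), mk 0 0 1 (-1) (-1) 0 0 0),
   (mk (-1) 0 (-1) 0 1 (-1) 0 1, mk 2 (-1) (-1) 1 0 0 3 (-2), mk 0 0 (-1) 1 1 0 0 0),
   (mk (-1) 0 (-1) 0 1 (-1) 0 1, mk (-2) 1 0 0 2 (-1) (-1) 1, mk 2 (-2) 0 0 (-1) 1 2 (-1)),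
   (mk (-1) 0 (-1) 0 1 (-1) 0 1, mk (-2) 1 0 0 2 (-1) (-1) 1, mk (-2) 2 0 0 1 (-1) (-2) 1),
   (mk (-1) 0 (-1) 0 1 (-1) 0 1, mk 2 (-1) 0 0 (-2) 1 1 (-1), mk 2 (-2) 0 0 (-1) 1 2 (-1)),
   (mk (-1) 0 (-1) 0 1 (-1) 0 1, mk 2 (-1) 0 0 (-2) 1 1 (-1), mk (-2) 2 0 0 1 (-1) (-2) 1),
   (mk (-1) 0 (-1) 0 1 (-1) 0 1, mk (-2) 1 1 (-1) 0 0 (-3) 2, mk 0 0 1 (-1) (-1) 0 0 0),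
   (mk (-1) 0 (-1) 0 1 (-1) 0 1, mk (-2) 1 1 (-1) 0 0 (-3) 2, mk 0 0 (-1) 1 1 0 0 0),
   (mk (-1) 0 (-1) 0 1 (-1) 0 1, mk 2 (-1) (-2) 1 1 (-1) 2 (-1), mk 0 0 (-2) 1 2 (-1) 1 (-1)),
   (mk (-1) 0 (-1) 0 1 (-1) 0 1, mk 2 (-1) (-2) 1 1 (-1) 2 (-1), mk 0 0 2 (-1) (-2) 1 (-1) 1),
   (mk (-1) 0 (-1) 0 1 (-1) 0 1, mk 2 (-1) 3 (-2) (-3) 2 0 0, mk 0 0 (-1) 0 0 0 1 0),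
   (mk (-1) 0 (-1) 0 1 (-1) 0 1, mk 2 (-1) 3 (-2) (-3) 2 0 0, mk 0 0 1 0 0 0 (-1) 0)]

/-- The 315 lines. -/
def lines : List (Ico × Ico × Ico) :=
  lines0 ++ lines1 ++ lines2 ++ lines3 ++ lines4 ++ lines5 ++ lines6

/-- Indices of four generating lines. -/
def gens : List ℕ := [1, 63, 173, 40]

/-- Breadth first order, with the position of the parent and the generator used. -/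
def tree : List (ℕ × ℕ × ℕ) :=
  [(69, 0, 1), (197, 0, 2), (30, 0, 3), (63, 1, 0), (184, 1, 2), (99, 1, 3),
   (173, 2, 0), (192, 2, 1), (267, 2, 3), (40, 3, 0), (97, 3, 1), (281, 3, 2),
   (46, 4, 2), (213, 4, 3), (56, 5, 1), (130, 5, 3), (175, 6, 1), (310, 6, 2),
   (292, 7, 3), (47, 8, 3), (312, 9, 1), (205, 9, 2), (199, 10, 1), (165, 10, 2),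
   (187, 11, 2), (157, 11, 3), (107, 12, 1), (290, 12, 3), (234, 13, 3), (96, 14, 2),
   (164, 15, 3), (132, 16, 0), (278, 16, 1), (254, 16, 2), (174, 17, 2), (10, 17, 3),
   (304, 18, 0), (272, 18, 1), (270, 18, 3), (161, 19, 1), (65, 19, 2), (53, 20, 0),
   (200, 20, 1), (21, 20, 2), (302, 21, 0), (101, 21, 2), (274, 21, 3), (264, 22, 1),
   (231, 22, 3), (11, 23, 2), (298, 24, 1), (179, 25, 0), (158, 25, 1), (171, 25, 3),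
   (279, 26, 2), (121, 27, 0), (72, 27, 3), (280, 28, 1), (221, 28, 2), (220, 29, 0),
   (102, 30, 0), (306, 30, 1), (85, 30, 3), (204, 31, 0), (43, 31, 1), (59, 31, 2),
   (291, 32, 2), (186, 33, 2), (146, 33, 3), (284, 34, 1), (147, 34, 3), (198, 35, 0),
   (33, 35, 1), (104, 35, 3), (308, 36, 2), (203, 37, 3), (307, 38, 3), (217, 39, 1),
   (32, 39, 2), (151, 40, 2), (153, 40, 3), (67, 41, 0), (68, 41, 1), (110, 42, 1),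
   (112, 42, 2), (176, 43, 0), (0, 43, 2), (314, 43, 3), (24, 44, 0), (61, 44, 1),
   (42, 44, 3), (211, 45, 2), (125, 45, 3), (95, 46, 0), (289, 46, 1), (78, 46, 3),
   (276, 47, 0), (3, 47, 2), (297, 48, 3), (52, 49, 1), (18, 50, 0), (230, 50, 3),
   (188, 51, 3), (89, 52, 1), (86, 52, 3), (214, 53, 0), (273, 53, 3), (195, 54, 0),
   (309, 54, 1), (178, 54, 2), (269, 55, 0), (287, 55, 3), (88, 56, 2), (222, 56, 3),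
   (62, 57, 0), (218, 58, 2), (163, 58, 3), (143, 59, 1), (247, 60, 1), (105, 60, 2),
   (144, 61, 3), (253, 62, 3), (79, 63, 0), (167, 63, 1), (124, 63, 2), (232, 64, 1),
   (80, 64, 2), (57, 65, 0), (142, 65, 2), (236, 65, 3), (73, 66, 0), (19, 66, 1),
   (137, 66, 3), (255, 67, 1), (194, 68, 0), (91, 68, 1), (148, 69, 0), (277, 70, 3),
   (145, 71, 0), (228, 71, 1), (20, 71, 2), (155, 72, 1), (13, 72, 3), (35, 73, 0),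
   (23, 73, 3), (94, 74, 0), (160, 74, 1), (282, 74, 2), (185, 75, 3), (225, 76, 1),
   (60, 76, 2), (305, 77, 0), (212, 77, 1), (26, 77, 2), (108, 78, 2), (48, 78, 3),
   (38, 79, 0), (226, 79, 1), (141, 80, 0), (9, 80, 3), (139, 81, 0), (248, 81, 2),
   (25, 82, 1), (66, 83, 0), (122, 83, 3), (120, 84, 0), (189, 84, 2), (84, 84, 3),
   (118, 85, 0), (5, 85, 1), (293, 85, 3), (256, 86, 3), (300, 88, 0), (208, 88, 2),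
   (27, 89, 3), (71, 90, 0), (28, 91, 0), (250, 91, 2), (7, 92, 3), (135, 93, 0),
   (181, 93, 1), (261, 94, 1), (168, 97, 1), (103, 98, 1), (283, 99, 0), (275, 99, 1),
   (252, 99, 2), (50, 100, 0), (246, 100, 2), (129, 100, 3), (237, 101, 1), (242, 101, 3),
   (224, 102, 0), (180, 103, 0), (111, 103, 1), (70, 103, 2), (75, 104, 0), (239, 105, 1),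
   (295, 106, 3), (251, 108, 1), (12, 108, 2), (303, 109, 0), (34, 109, 2), (117, 109, 3),
   (202, 110, 0), (271, 110, 1), (87, 110, 3), (190, 112, 1), (113, 112, 2), (243, 114, 2),
   (162, 116, 0), (123, 116, 1), (127, 116, 3), (150, 117, 2), (149, 118, 0), (77, 118, 3),
   (82, 119, 3), (58, 121, 1), (74, 121, 2), (263, 122, 0), (229, 123, 1), (170, 123, 2),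
   (207, 124, 0), (268, 124, 2), (138, 125, 0), (36, 125, 1), (154, 127, 1), (159, 128, 2),
   (209, 128, 3), (152, 129, 0), (14, 129, 3), (233, 130, 2), (98, 131, 3), (29, 133, 1),
   (169, 133, 2), (4, 137, 2), (286, 138, 1), (191, 138, 2), (49, 140, 2), (109, 140, 3),
   (16, 143, 0), (134, 143, 1), (2, 143, 2), (22, 145, 0), (17, 146, 1), (216, 147, 0),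
   (301, 147, 2), (92, 148, 3), (193, 149, 0), (55, 149, 2), (227, 150, 0), (206, 150, 3),
   (201, 151, 3), (262, 152, 1), (156, 153, 0), (294, 155, 1), (245, 155, 3), (54, 156, 0),
   (31, 157, 3), (313, 159, 1), (81, 160, 2), (238, 162, 0), (37, 163, 3), (259, 165, 1),
   (133, 166, 2), (223, 170, 3), (260, 171, 2), (140, 172, 2), (41, 175, 0), (266, 175, 2),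
   (219, 177, 2), (51, 181, 3), (93, 183, 2), (240, 183, 3), (285, 186, 3), (215, 187, 3),
   (257, 188, 2), (131, 190, 0), (244, 192, 0), (83, 193, 1), (15, 194, 1), (64, 196, 0),
   (119, 197, 3), (265, 200, 0), (235, 200, 2), (296, 200, 3), (100, 203, 1), (8, 204, 2),
   (44, 207, 2), (182, 208, 0), (115, 209, 0), (106, 209, 1), (241, 210, 0), (39, 211, 1),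
   (114, 216, 1), (299, 220, 1), (90, 221, 2), (210, 222, 0), (249, 222, 1), (288, 222, 3),
   (196, 225, 3), (311, 228, 3), (183, 233, 2), (76, 237, 2), (136, 237, 3), (258, 238, 1),
   (172, 241, 1), (128, 242, 0), (45, 242, 2), (177, 246, 3), (126, 250, 1), (116, 251, 2),
   (166, 252, 0), (6, 253, 1)]

/-- The root of the tree. -/
def root : ℕ := 1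

end Cfsg.IcoLeech.Data
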