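import Cfsg.Agent.IcoLeech.Lattice
import Cfsg.Agent.IcoLeech.Data

/-! The candidates for minimal vectors are the listed lines. -/

set_option autoImplicit false
set_option maxRecDepth 100000
set_option Elab.async false

noncomputable section

namespace Cfsg.IcoLeech

open Quaternion Cfsg.Spor Data

/-- The key modulo the first ideal. -/
def hKey (x : Ico) : ℕ := code (x * hB)

/-- The key modulo both ideals. -/
def hgKey (x : Ico) : ℕ := hKey x * 256 + code (x * hE)

/-- A possible norm of a component. -/
def okRem (r : Zt) : Bool := r == 0 || classes.contains r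

/-- The candidates starting at `x`, from lookup tables of tagged components. -/
def candAt (tY tZ : Trie (Zt × Ico)) (x : Ico) : List V3 :=
  let nx := Ico.nrm x
  ((tY.get 8 (hKey x)).flatMap fun py =>
      bif okRem (⟨4, 0⟩ - nx - py.1) then
        ((tZ.get 16 (hKey x * 256 + code ((x + py.2) * hE))).filter fun pz =>
          pz.1 == ⟨4, 0⟩ - nx - py.1).map fun pz => (x, py.2, pz.2)
      else []) ++
    ((bif hKey x == 0 then tZ.get 16 (hKey x * 256 + code (x * hE)) else []).filter fun pz =>
        pz.1 == ⟨4, 0⟩ - nx).map (fun pz => (0, x, pz.2)) ++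
    (bif hKey x == 0 && code (x * hE) == 0 && nx == ⟨4, 0⟩ then [(0, 0, x)] else [])

/-- All candidates, computed from a tagged list of possible components. -/
def candAll (E : List (Zt × Ico)) : List V3 :=
  let tY := Trie.build (fun p => hKey p.2) 8 E
  let tZ := Trie.build (fun p => hgKey p.2) 16 E
  reps.flatMap (candAt tY tZ)

/-- The components with their norms. -/
def pool : List (Zt × Ico) :=
  (0, 0) :: reps.flatMap fun r => units.map fun u => (Ico.nrm r, u * r)

/-- An icosian with prescribed coordinates modulo two. -/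
def ofBits (c : ℕ) : Ico :=
  ⟨⟨↑(c % 2), ↑(c / 2 % 2)⟩, ⟨↑(c / 4 % 2), ↑(c / 8 % 2)⟩, ⟨↑(c / 16 % 2), ↑(c / 32 % 2)⟩,
    ⟨↑(c / 64 % 2), ↑(c / 128 % 2)⟩⟩

/-- An entry of a packed table of bytes. -/
def look (T c : ℕ) : ℕ := (T >>> (8 * c)) % 256

/-- The table of the codes of multiples of `hB`. -/
def tblB : ℕ := 0xf500af5a00f55aafaf5af5005aaf00f5bd48e71248bd12e7e712bd4812e748bd798c23d68c79d62323d6798cd6238c7931c46b9ec4319e6b6b9e31c49e6bc431e712bd4812e748bdbd48e71248bd12e7af5af5005aaf00f5f500af5a00f55aaf6b9e31c49e6bc43131c46b9ec4319e6b23d6798cd6238c79798c23d68c79d623d6238c7923d6798c8c79d623798c23d69e6bc4316b9e31c4c4319e6b31c46b9e5aaf00f5af5af50000f55aaff500af5a12e748bde712bd4848bd12e7bd48e712c4319e6b31c46b9e9e6bc4316b9e31c48c79d623798c23d6d6238c7923d6798c48bd12e7bd48e71212e748bde712bd4800f55aaff500af5a5aaf00f5af5af500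

/-- The table of the codes of multiples of `hE`. -/
def tblE : ℕ := 0xafe52a6fb0fa35758ac00f4a95df10552a60afea357fb0f00f458acf105a95da652fe0a57a30ffbf400ac5805f15da9fe0aa6520ffb57a3ac58f4005da905f158ac00f4a95df1050afe52a6fb0fa35700f458acf105a95d52a60afea357fb0ff400ac5805f15da9a652fe0a57a30ffbac58f4005da905f1fe0aa6520ffb57a3a95df10558ac00f4fb0fa3570afe52a6f105a95d00f458aca357fb0f52a60afe05f15da9f400ac5857a30ffba652fe0a5da905f1ac58f4000ffb57a3fe0aa652fb0fa3570afe52a6a95df10558ac00f4a357fb0f52a60afef105a95d00f458ac57a30ffba652fe0a05f15da9f400ac580ffb57a3fe0aa6525da905f1ac58f400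

theorem tbl_check : ((List.range 256).all fun c => code (ofBits c) == c && code (ofBits c * hB) == look tblB c &&
    code (ofBits c * hE) == look tblE c) = true := by decide +kernel

theorem code_lt (x : Ico) : code x < 256 := by
  obtain ⟨⟨a, b⟩, ⟨c, d⟩, ⟨e, f⟩, ⟨g, k⟩⟩ := x
  simp only [code, parCons]
  omega

theorem code_mul_congr (x y h : Ico) (e : code x = code y) : code (x * h) = code (y * h) := by
  obtain ⟨z, hz⟩ := (bit_code_eq _).1 ((code_sub x y).1 e)
  rw [code_sub, bit_code_eq]
  refine ⟨z * h, ?_⟩
  have h1 : x * h - y * h = (x - y) * h := by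
    show Ico.sub (Ico.mul x h) (Ico.mul y h) = Ico.mul (Ico.sub x y) h
    simp only [Ico.sub, Ico.mul, Ico.mk.injEq]
    refine ⟨?_, ?_, ?_, ?_⟩ <;> ext <;> simp <;> ring
  rw [h1, hz]
  show Ico.mul (Ico.add z z) h = Ico.add (Ico.mul z h) (Ico.mul z h)
  simp only [Ico.add, Ico.mul, Ico.mk.injEq]
  refine ⟨?_, ?_, ?_, ?_⟩ <;> ext <;> simp <;> ring

theorem look_eq (x : Ico) : code (x * hB) = look tblB (code x) ∧ code (x * hE) = look tblE (code x) := by
  have h := List.all_eq_true.1 tbl_check (code x) (List.mem_range.2 (code_lt x))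
  simp only [Bool.and_eq_true, beq_iff_eq] at h
  exact ⟨(code_mul_congr x _ hB h.1.1.symm).trans h.1.2, (code_mul_congr x _ hE h.1.1.symm).trans h.2⟩

/-- The candidates starting at `x`, with the keys read from the tables. -/
def candAtT (tY tZ : Trie (Zt × Ico)) (x : Ico) : List V3 :=
  let nx := Ico.nrm x
  ((tY.get 8 (look tblB (code x))).flatMap fun py =>
      bif okRem (⟨4, 0⟩ - nx - py.1) then
        ((tZ.get 16 (look tblB (code x) * 256 + look tblE (code (x + py.2)))).filter fun pz =>
          pz.1 == ⟨4, 0⟩ - nx - py.1).map fun pz => (x, py.2, pz.2)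
      else []) ++
    ((bif look tblB (code x) == 0 then tZ.get 16 (look tblB (code x) * 256 + look tblE (code x)) else []).filter
        fun pz => pz.1 == ⟨4, 0⟩ - nx).map (fun pz => (0, x, pz.2)) ++
    (bif look tblB (code x) == 0 && look tblE (code x) == 0 && nx == ⟨4, 0⟩ then [(0, 0, x)] else [])

/-- All candidates, with the keys read from the tables. -/
def candAllT (E : List (Zt × Ico)) : List V3 :=
  let tY := Trie.build (fun p => look tblB (code p.2)) 8 E
  let tZ := Trie.build (fun p => look tblB (code p.2) * 256 + look tblE (code p.2)) 16 E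
  reps.flatMap (candAtT tY tZ)

theorem candAll_eq_candAllT (E : List (Zt × Ico)) : candAll E = candAllT E := by
  simp only [candAll, candAllT, hgKey, hKey, fun x => (look_eq x).1, fun x => (look_eq x).2]
  refine List.flatMap_congr fun x _ => ?_
  simp only [candAt, candAtT, hKey, fun x => (look_eq x).1, fun x => (look_eq x).2]

/-- One share of the candidates. -/
def candPart (s : List Ico) : List V3 :=
  let tY := Trie.build (fun p => look tblB (code p.2)) 8 pool
  let tZ := Trie.build (fun p => look tblB (code p.2) * 256 + look tblE (code p.2)) 16 pool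
  s.flatMap (candAtT tY tZ)

theorem candPart_one : candPart (reps.take 17) = lines.take 3 := by decide +kernel

theorem candPart_two : candPart ((reps.drop 17).take 17) = [] := by decide +kernel

theorem candPart_three : candPart ((reps.drop 17).drop 17) = lines.drop 3 := by decide +kernel

theorem candAllT_eq : candAllT pool = lines := by
  have h : candAllT pool = candPart (reps.take 17) ++
      (candPart ((reps.drop 17).take 17) ++ candPart ((reps.drop 17).drop 17)) := by
    simp only [candAllT, candPart, ← List.flatMap_append, List.take_append_drop]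
  rw [h, candPart_one, candPart_two, candPart_three, List.nil_append, List.take_append_drop]

theorem candAll_eq : candAll pool = lines := (candAll_eq_candAllT pool).trans candAllT_eq

end Cfsg.IcoLeech

end
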