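import Cfsg.Agent.IcoLeech.CoverBox
import Cfsg.Agent.IcoLeech.CoverLeaves
import Cfsg.Agent.IcoLeech.CoverNodup

/-! The small icosians are the unit multiples of the representatives (the checks). -/
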