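import Cfsg.Agent.IcoLeech.CoverDefs

/-! One check about the orbit list of small icosians. -/

set_option autoImplicit false
set_option maxRecDepth 100000

noncomputable section

namespace Cfsg.IcoLeech

open Quaternion Cfsg.Spor Data

theorem orbit_box : orbitList.all inBox = true := by decide +kernel

end Cfsg.IcoLeech

end
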