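import Cfsg.Agent.IcoLeech.Lattice
import Cfsg.Agent.IcoLeech.Data

/-! The small icosians are the unit multiples of the representatives. -/

set_option autoImplicit false
set_option maxRecDepth 100000

noncomputable section

namespace Cfsg.IcoLeech

open Quaternion Cfsg.Spor Data

/-- The products of units with representatives. -/
def orbitList : List Ico := reps.flatMap fun r => units.map fun u => u * r

/-- The packed orbit list. -/
def orbitPacks : List ℕ := orbitList.map packI

/-- A hash of a packed icosian. -/
def packKey (p : ℕ) : ℕ := p % 4093

/-- Every small icosian is in the orbit list. -/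
def coverB : Bool :=
  let t := Trie.build packKey 12 orbitPacks
  leaves.all fun q => (t.get 12 (packKey q)).contains q

/-- The packed coordinates, with the coordinate of `j` restricted to a table. -/
def leavesOf (T : List (ℕ × ℕ × ℕ × ℕ)) : List ℕ :=
  T.flatMap fun (aj, bj, sj, tj) => tabAll.flatMap fun (ak, bk, sk, tk) =>
    bif Nat.ble (sj + sk) 16 then
      (tabOf ((ak + bk + bj) % 2) ((ak + aj + bj) % 2)).flatMap fun (ar, br, sr, tr) =>
        bif Nat.ble (sj + sk + sr) 16 then
          (tabOf ((bk + aj + bj) % 2) ((ak + bk + aj) % 2)).flatMap fun (ai, bi, si, ti) =>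
            bif Nat.ble (sj + sk + sr + si) 16 && classOK (sj + sk + sr + si) (tj + tk + tr + ti)
            then [pack ar br ai bi aj bj ak bk] else []
        else []
    else []

/-- The covering check for a part of the table. -/
def coverPartB (T : List (ℕ × ℕ × ℕ × ℕ)) : Bool :=
  let t := Trie.build packKey 12 orbitPacks
  (leavesOf T).all fun q => (t.get 12 (packKey q)).contains q

theorem leaves_eq : leaves = leavesOf (tab00 ++ tab01) ++ leavesOf (tab10 ++ tab11) := by
  show leavesOf tabAll = _
  unfold leavesOf
  rw [← List.flatMap_append, tabAll, List.append_assoc]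

theorem coverB_of_parts (h1 : coverPartB (tab00 ++ tab01) = true)
    (h2 : coverPartB (tab10 ++ tab11) = true) : coverB = true := by
  unfold coverPartB at h1 h2
  unfold coverB
  simp only [leaves_eq, List.all_append, Bool.and_eq_true]
  exact ⟨h1, h2⟩

/-- The orbit list has no repetition. -/
def nodupB : Bool :=
  let t := Trie.build packKey 12 orbitPacks
  orbitPacks.all fun q => (t.get 12 (packKey q)).count q == 1

end Cfsg.IcoLeech

end
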