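import Cfsg.Agent.IcoLeech.Ring

/-! Enumeration of the icosians of small norm, and lookup tables. -/

set_option autoImplicit false

namespace Cfsg.IcoLeech

open Zt

/-- A binary lookup table. -/
inductive Trie (α : Type) where
  | leaf (l : List α) : Trie α
  | node (f t : Trie α) : Trie α

namespace Trie

variable {α : Type}

/-- Split a list by the low bits of a key. -/
def build (key : α → ℕ) : ℕ → List α → Trie α
  | 0, l => .leaf l
  | n + 1, l =>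
    .node (build key n (l.filter fun x => !(key x).testBit n))
      (build key n (l.filter fun x => (key x).testBit n))

/-- The bucket of a key. -/
def get : Trie α → ℕ → ℕ → List α
  | .leaf l, _, _ => l
  | .node f t, n + 1, k => if k.testBit n then get t n k else get f n k
  | .node _ _, 0, _ => []

theorem count_get [BEq α] [LawfulBEq α] (key : α → ℕ) :
    ∀ (n : ℕ) (l : List α) (x : α), ((build key n l).get n (key x)).count x = l.count x
  | 0, l, x => rfl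
  | n + 1, l, x => by
    simp only [build, get]
    split
    · next h => rw [count_get key n _ x, List.count_filter (by simpa using h)]
    · next h => rw [count_get key n _ x, List.count_filter (by simpa using h)]

theorem mem_get [BEq α] [LawfulBEq α] (key : α → ℕ) (n : ℕ) {l : List α} {x : α} (h : x ∈ l) :
    x ∈ (build key n l).get n (key x) := by
  rw [← List.count_pos_iff, count_get]
  exact List.count_pos_iff.2 h

theorem mem_of_mem_get (key : α → ℕ) :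
    ∀ (n : ℕ) (l : List α) (k : ℕ) (x : α), x ∈ (build key n l).get n k → x ∈ l
  | 0, _, _, _, h => h
  | n + 1, l, k, x, h => by
    simp only [build, get] at h
    split at h
    · exact List.mem_of_mem_filter (mem_of_mem_get key n _ k x h)
    · exact List.mem_of_mem_filter (mem_of_mem_get key n _ k x h)

end Trie

/-- Prepend a parity bit. -/
def parCons (a : ℤ) (n : ℕ) : ℕ := (a % 2).toNat + 2 * n

theorem parCons_eq_iff {a a' : ℤ} {n n' : ℕ} :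
    parCons a n = parCons a' n' ↔ a % 2 = a' % 2 ∧ n = n' := by
  simp only [parCons]
  omega

theorem parCons_eq_zero {a : ℤ} {n : ℕ} : parCons a n = 0 ↔ a % 2 = 0 ∧ n = 0 := by
  simp only [parCons]
  omega

/-- The coordinates modulo two, as a number below 256. -/
def code : Ico → ℕ
  | ⟨⟨a, b⟩, ⟨c, d⟩, ⟨e, f⟩, ⟨g, h⟩⟩ =>
    parCons a (parCons b (parCons c (parCons d (parCons e (parCons f (parCons g (parCons h 0)))))))

/-- The sum of squares of the two coordinates. -/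
def sq2 : Zt → ℤ
  | ⟨a, b⟩ => a * a + b * b

/-- The irrational part of a square. -/
def cross2 : Zt → ℤ
  | ⟨a, b⟩ => 2 * (a * b) + b * b

/-- The norms occurring in minimal vectors, as coordinate pairs. -/
def classes : List Zt :=
  [⟨1, 0⟩, ⟨1, 1⟩, ⟨2, -1⟩, ⟨2, 0⟩, ⟨2, 1⟩, ⟨3, -1⟩, ⟨3, 0⟩, ⟨4, 0⟩]

/-- `τ⁻¹`. -/
def tinv : Zt := ⟨-1, 1⟩

/-- Halve a number with even coordinates. -/
def halfZ : Zt → Zt
  | ⟨a, b⟩ => ⟨a / 2, b / 2⟩

/-- Solve for the coordinates from twice the quaternion coordinates. -/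
def undbl : Zt × Zt × Zt × Zt → Ico
  | (cr, ci, cj, ck) =>
    let d := -(tinv * cj)
    let c := tinv * ck
    ⟨halfZ (cr - c + s * d), halfZ (ci - s * c - d), c, d⟩

theorem sq2_nonneg (p : Zt) : 0 ≤ sq2 p := by
  obtain ⟨a, b⟩ := p
  simp only [sq2]
  nlinarith [mul_self_nonneg a, mul_self_nonneg b]

/-- Shifted coordinates with the two parts of the square. -/
def entry : Zt → ℕ × ℕ × ℕ × ℕ
  | ⟨a, b⟩ => ((a + 4).toNat, (b + 4).toNat, (sq2 ⟨a, b⟩).toNat, (cross2 ⟨a, b⟩ + 24).toNat)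

/-- Table. -/
def tab00 : List (ℕ × ℕ × ℕ × ℕ) :=
  [(0, 4, 16, 24), (2, 2, 8, 36), (2, 4, 4, 24), (2, 6, 8, 20), (4, 0, 16, 40), (4, 2, 4, 28), (4, 4, 0, 24), (4, 6, 4, 28), (4, 8, 16, 40), (6, 2, 8, 20), (6, 4, 4, 24), (6, 6, 8, 36), (8, 4, 16, 24)]

/-- Table. -/
def tab01 : List (ℕ × ℕ × ℕ × ℕ) :=
  [(2, 1, 13, 45), (2, 3, 5, 29), (2, 5, 5, 21), (2, 7, 13, 21), (4, 1, 9, 33), (4, 3, 1, 25), (4, 5, 1, 25), (4, 7, 9, 33), (6, 1, 13, 21), (6, 3, 5, 21), (6, 5, 5, 29), (6, 7, 13, 45)]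

/-- Table. -/
def tab10 : List (ℕ × ℕ × ℕ × ℕ) :=
  [(1, 2, 13, 40), (1, 4, 9, 24), (1, 6, 13, 16), (3, 2, 5, 32), (3, 4, 1, 24), (3, 6, 5, 24), (5, 2, 5, 24), (5, 4, 1, 24), (5, 6, 5, 32), (7, 2, 13, 16), (7, 4, 9, 24), (7, 6, 13, 40)]

/-- Table. -/
def tab11 : List (ℕ × ℕ × ℕ × ℕ) :=
  [(1, 3, 10, 31), (1, 5, 10, 19), (3, 1, 10, 39), (3, 3, 2, 27), (3, 5, 2, 23), (3, 7, 10, 27), (5, 1, 10, 27), (5, 3, 2, 23), (5, 5, 2, 27), (5, 7, 10, 39), (7, 3, 10, 19), (7, 5, 10, 31)]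

/-- Table. -/
def tabAll : List (ℕ × ℕ × ℕ × ℕ) :=
  tab00 ++ tab01 ++ tab10 ++ tab11

/-- The table with given parities. -/
def tabOf (i j : ℕ) : List (ℕ × ℕ × ℕ × ℕ) :=
  if i == 0 then (if j == 0 then tab00 else tab01) else (if j == 0 then tab10 else tab11)

/-- The allowed totals. -/
def classOK (S T : ℕ) : Bool :=
  [4 * 256 + 96, 4 * 256 + 100, 8 * 256 + 92, 8 * 256 + 96, 8 * 256 + 100, 12 * 256 + 92,
    12 * 256 + 96, 16 * 256 + 96].contains (S * 256 + T)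

/-- Eight digits in base sixteen. -/
def pack (a b c d e f g h : ℕ) : ℕ :=
  a + 16 * (b + 16 * (c + 16 * (d + 16 * (e + 16 * (f + 16 * (g + 16 * h))))))

/-- The packed coordinates of a quadruple. -/
def packC (C : Zt × Zt × Zt × Zt) : ℕ :=
  pack (C.1.a + 4).toNat (C.1.b + 4).toNat (C.2.1.a + 4).toNat (C.2.1.b + 4).toNat
    (C.2.2.1.a + 4).toNat (C.2.2.1.b + 4).toNat (C.2.2.2.a + 4).toNat (C.2.2.2.b + 4).toNat

/-- The packed doubled coordinates of an icosian. -/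
def packI (x : Ico) : ℕ := packC x.dbl

/-- A small coordinate. -/
def inBox1 (a : ℤ) : Bool := decide (-4 ≤ a) && decide (a ≤ 4)

/-- All coordinates of a quadruple are small. -/
def boxC (C : Zt × Zt × Zt × Zt) : Bool :=
  inBox1 C.1.a && inBox1 C.1.b && inBox1 C.2.1.a && inBox1 C.2.1.b &&
    inBox1 C.2.2.1.a && inBox1 C.2.2.1.b && inBox1 C.2.2.2.a && inBox1 C.2.2.2.b

/-- All doubled coordinates are small. -/
def inBox (x : Ico) : Bool := boxC x.dbl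

/-- The packed doubled coordinates of all icosians with norm in `classes`. -/
def leaves : List ℕ :=
  tabAll.flatMap fun (aj, bj, sj, tj) => tabAll.flatMap fun (ak, bk, sk, tk) =>
    bif Nat.ble (sj + sk) 16 then
      (tabOf ((ak + bk + bj) % 2) ((ak + aj + bj) % 2)).flatMap fun (ar, br, sr, tr) =>
        bif Nat.ble (sj + sk + sr) 16 then
          (tabOf ((bk + aj + bj) % 2) ((ak + bk + aj) % 2)).flatMap fun (ai, bi, si, ti) =>
            bif Nat.ble (sj + sk + sr + si) 16 && classOK (sj + sk + sr + si) (tj + tk + tr + ti)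
            then [pack ar br ai bi aj bj ak bk] else []
        else []
    else []

theorem mem_cond {α : Type} {b : Bool} {x : α} {l : List α} (hb : b = true) (h : x ∈ l) :
    x ∈ bif b then l else [] := by
  subst hb
  exact h

theorem mem_tab {p : Zt} (h : sq2 p ≤ 16) {i j : ℕ} (hi : ((p.a + 4).toNat) % 2 = i)
    (hj : ((p.b + 4).toNat) % 2 = j) : entry p ∈ tabAll ∧ entry p ∈ tabOf i j := by
  subst hi hj
  have key : ∀ a ∈ List.range 9, ∀ b ∈ List.range 9,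
      sq2 ⟨Int.ofNat a - 4, Int.ofNat b - 4⟩ ≤ 16 →
        entry ⟨Int.ofNat a - 4, Int.ofNat b - 4⟩ ∈ tabAll ∧
        entry ⟨Int.ofNat a - 4, Int.ofNat b - 4⟩ ∈ tabOf (a % 2) (b % 2) := by decide +kernel
  obtain ⟨a, b⟩ := p
  have h' : a * a + b * b ≤ 16 := h
  have ha : -4 ≤ a ∧ a ≤ 4 := by constructor <;> nlinarith [mul_self_nonneg b]
  have hb : -4 ≤ b ∧ b ≤ 4 := by constructor <;> nlinarith [mul_self_nonneg a]
  obtain ⟨ha1, ha2⟩ := ha
  obtain ⟨hb1, hb2⟩ := hb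
  have e1 : Int.ofNat (a + 4).toNat - 4 = a := by simp only [Int.ofNat_eq_natCast]; omega
  have e2 : Int.ofNat (b + 4).toNat - 4 = b := by simp only [Int.ofNat_eq_natCast]; omega
  have h2 := key (a + 4).toNat (List.mem_range.2 (by omega)) (b + 4).toNat
    (List.mem_range.2 (by omega))
  rw [e1, e2] at h2
  exact h2 h

/-- The four squares give four times the norm. -/
theorem four_nrm (x : Ico) :
    let C := x.dbl
    4 * (Ico.nrm x).a = sq2 C.1 + sq2 C.2.1 + sq2 C.2.2.1 + sq2 C.2.2.2 := by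
  obtain ⟨a, b, c, d⟩ := x
  have e : ∀ p : Zt, sq2 p = p.a * p.a + p.b * p.b := fun _ => rfl
  show 4 * (Ico.mul _ _).z0.a = _
  simp [Ico.conj, Ico.dbl, Ico.mul, e, Zt.s, Zt.t]
  ring

theorem undbl_dbl (x : Ico) : undbl x.dbl = x := by
  obtain ⟨a, b, c, d⟩ := x
  have hd : -(tinv * -(t * d)) = d := by ext <;> simp [tinv, Zt.t]
  have hc : tinv * (t * c) = c := by ext <;> simp [tinv, Zt.t]
  have ha : a + a + c - s * d - c + s * d = a + a := by ext <;> simp <;> ring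
  have hb : b + b + s * c + d - s * c - d = b + b := by ext <;> simp <;> ring
  have he : ∀ z : Zt, halfZ (z + z) = z := by
    intro z
    obtain ⟨p, q⟩ := z
    have e : (⟨p, q⟩ : Zt) + ⟨p, q⟩ = ⟨2 * p, 2 * q⟩ := by ext <;> simp [two_mul]
    rw [e]
    simp [halfZ]
  simp only [Ico.dbl, undbl, hd, hc, ha, hb, he]

theorem boxC_iff (C : Zt × Zt × Zt × Zt) : boxC C = true ↔
    (-4 ≤ C.1.a ∧ C.1.a ≤ 4) ∧ (-4 ≤ C.1.b ∧ C.1.b ≤ 4) ∧
    (-4 ≤ C.2.1.a ∧ C.2.1.a ≤ 4) ∧ (-4 ≤ C.2.1.b ∧ C.2.1.b ≤ 4) ∧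
    (-4 ≤ C.2.2.1.a ∧ C.2.2.1.a ≤ 4) ∧ (-4 ≤ C.2.2.1.b ∧ C.2.2.1.b ≤ 4) ∧
    (-4 ≤ C.2.2.2.a ∧ C.2.2.2.a ≤ 4) ∧ (-4 ≤ C.2.2.2.b ∧ C.2.2.2.b ≤ 4) := by
  simp only [boxC, inBox1, Bool.and_eq_true, decide_eq_true_eq, and_assoc]

theorem dbl_parity (x : Ico) :
    (x.dbl.1.a - (x.dbl.2.2.2.a + x.dbl.2.2.2.b + x.dbl.2.2.1.b)) % 2 = 0 ∧
    (x.dbl.1.b - (x.dbl.2.2.2.a + x.dbl.2.2.1.a + x.dbl.2.2.1.b)) % 2 = 0 ∧
    (x.dbl.2.1.a - (x.dbl.2.2.2.b + x.dbl.2.2.1.a + x.dbl.2.2.1.b)) % 2 = 0 ∧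
    (x.dbl.2.1.b - (x.dbl.2.2.2.a + x.dbl.2.2.2.b + x.dbl.2.2.1.a)) % 2 = 0 := by
  obtain ⟨a, b, c, d⟩ := x
  simp [Ico.dbl, Zt.s, Zt.t]
  omega

theorem inBox_of_nrm {x : Ico} (h : (Ico.nrm x).a ≤ 4) : inBox x = true := by
  have h4 := four_nrm x
  simp only at h4
  have key : ∀ p : Zt, sq2 p ≤ 16 → (-4 ≤ p.a ∧ p.a ≤ 4) ∧ (-4 ≤ p.b ∧ p.b ≤ 4) := by
    intro p hp
    obtain ⟨a, b⟩ := p
    have h' : a * a + b * b ≤ 16 := hp
    refine ⟨⟨?_, ?_⟩, ?_, ?_⟩ <;> nlinarith [mul_self_nonneg a, mul_self_nonneg b]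
  have n1 := sq2_nonneg x.dbl.1
  have n2 := sq2_nonneg x.dbl.2.1
  have n3 := sq2_nonneg x.dbl.2.2.1
  have n4 := sq2_nonneg x.dbl.2.2.2
  rw [inBox, boxC_iff]
  obtain ⟨k1, k2⟩ := key _ (show sq2 x.dbl.1 ≤ 16 by omega)
  obtain ⟨k3, k4⟩ := key _ (show sq2 x.dbl.2.1 ≤ 16 by omega)
  obtain ⟨k5, k6⟩ := key _ (show sq2 x.dbl.2.2.1 ≤ 16 by omega)
  obtain ⟨k7, k8⟩ := key _ (show sq2 x.dbl.2.2.2 ≤ 16 by omega)
  exact ⟨k1, k2, k3, k4, k5, k6, k7, k8⟩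

theorem four_nrm_b (x : Ico) :
    let C := x.dbl
    4 * (Ico.nrm x).b = cross2 C.1 + cross2 C.2.1 + cross2 C.2.2.1 + cross2 C.2.2.2 := by
  obtain ⟨a, b, c, d⟩ := x
  have e : ∀ p : Zt, cross2 p = 2 * (p.a * p.b) + p.b * p.b := fun _ => rfl
  show 4 * (Ico.mul _ _).z0.b = _
  simp [Ico.conj, Ico.dbl, Ico.mul, e, Zt.s, Zt.t]
  ring

set_option maxHeartbeats 800000 in
theorem mem_leaves {x : Ico} (h : Ico.nrm x ∈ classes) : packI x ∈ leaves := by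
  have h4 := four_nrm x
  have h5 := four_nrm_b x
  have hu : (Ico.nrm x).a ≤ 4 := (by decide : ∀ p ∈ classes, p.a ≤ 4) _ h
  have hb : 4 ≤ 4 * (Ico.nrm x).a ∧ -24 ≤ (Ico.nrm x).b ∧
      classOK (4 * (Ico.nrm x).a).toNat (4 * (Ico.nrm x).b + 96).toNat = true :=
    (by decide : ∀ p ∈ classes, 4 ≤ 4 * p.a ∧ -24 ≤ p.b ∧
      classOK (4 * p.a).toNat (4 * p.b + 96).toNat = true) _ h
  have hbox := (boxC_iff _).1 (inBox_of_nrm hu)
  obtain ⟨p1, p2, p3, p4⟩ := dbl_parity x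
  simp only at h4 h5
  have hc : ∀ q : Zt, -4 ≤ q.a → q.a ≤ 4 → -4 ≤ q.b → q.b ≤ 4 → -24 ≤ cross2 q := by
    intro q h1 h2 h3 h4
    obtain ⟨a, b⟩ := q
    simp only [cross2]
    nlinarith [mul_self_nonneg (a + b), mul_self_nonneg a]
  unfold packI
  generalize x.dbl = C at *
  obtain ⟨cr, ci, cj, ck⟩ := C
  simp only at *
  obtain ⟨⟨r1, r2⟩, ⟨r3, r4⟩, ⟨i1, i2⟩, ⟨i3, i4⟩, ⟨j1, j2⟩, ⟨j3, j4⟩, ⟨k1, k2⟩, ⟨k3, k4⟩⟩ := hbox
  have n1 := sq2_nonneg cr
  have n2 := sq2_nonneg ci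
  have n3 := sq2_nonneg cj
  have n4 := sq2_nonneg ck
  have m1 := hc cr r1 r2 r3 r4
  have m2 := hc ci i1 i2 i3 i4
  have m3 := hc cj j1 j2 j3 j4
  have m4 := hc ck k1 k2 k3 k4
  refine List.mem_flatMap.2 ⟨entry cj, (mem_tab (by omega) rfl rfl).1,
    List.mem_flatMap.2 ⟨entry ck, (mem_tab (by omega) rfl rfl).1, ?_⟩⟩
  obtain ⟨aj, bj⟩ := cj
  obtain ⟨ak, bk⟩ := ck
  obtain ⟨ar, br⟩ := cr
  obtain ⟨ai, bi⟩ := ci
  simp only at *
  simp only [entry]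
  refine mem_cond (by rw [Nat.ble_eq]; omega) (List.mem_flatMap.2 ⟨entry ⟨ar, br⟩, (mem_tab (by omega)
    (by simp only; omega) (by simp only; omega)).2, ?_⟩)
  simp only [entry]
  refine mem_cond (by rw [Nat.ble_eq]; omega) (List.mem_flatMap.2 ⟨entry ⟨ai, bi⟩, (mem_tab (by omega)
    (by simp only; omega) (by simp only; omega)).2, ?_⟩)
  simp only [entry]
  refine mem_cond ?_ (List.mem_singleton_self _)
  rw [Bool.and_eq_true]
  refine ⟨by rw [Nat.ble_eq]; omega, ?_⟩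
  convert hb.2.2 using 2 <;> omega

theorem pack_inj {a b c d e f g h a' b' c' d' e' f' g' h' : ℕ}
    (ha : a < 16) (hb : b < 16) (hc : c < 16) (hd : d < 16) (he : e < 16) (hf : f < 16) (hg : g < 16)
    (ha' : a' < 16) (hb' : b' < 16) (hc' : c' < 16) (hd' : d' < 16) (he' : e' < 16) (hf' : f' < 16)
    (hg' : g' < 16) (H : pack a b c d e f g h = pack a' b' c' d' e' f' g' h') :
    a = a' ∧ b = b' ∧ c = c' ∧ d = d' ∧ e = e' ∧ f = f' ∧ g = g' ∧ h = h' := by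
  simp only [pack] at H
  omega

theorem packI_inj {x y : Ico} (hx : inBox x = true) (hy : inBox y = true)
    (h : packI x = packI y) : x = y := by
  rw [← undbl_dbl x, ← undbl_dbl y]
  congr 1
  rw [inBox, boxC_iff] at hx hy
  unfold packI packC at h
  generalize x.dbl = C at *
  generalize y.dbl = D at *
  obtain ⟨⟨a, b⟩, ⟨c, d⟩, ⟨e, f⟩, ⟨g, k⟩⟩ := C
  obtain ⟨⟨a', b'⟩, ⟨c', d'⟩, ⟨e', f'⟩, ⟨g', k'⟩⟩ := D
  simp only at *
  have H := pack_inj (by omega) (by omega) (by omega) (by omega) (by omega) (by omega) (by omega)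
    (by omega) (by omega) (by omega) (by omega) (by omega) (by omega) (by omega) h
  simp only [Prod.mk.injEq, Zt.mk.injEq]
  omega

end Cfsg.IcoLeech
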