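import Cfsg.Agent.IcoLeech.Enum

/-! The icosian Leech lattice in coordinates. -/

set_option autoImplicit false

noncomputable section

namespace Cfsg.IcoLeech

open Quaternion Cfsg.Spor

/-- A triple of icosians. -/
abbrev V3 := Ico × Ico × Ico

/-- The real vector. -/
def toV (v : V3) : Fin 3 → ℍ[ℝ] := ![v.1.toQ, v.2.1.toQ, v.2.2.toQ]

/-- Left scalar multiplication. -/
def V3.lmul (u : Ico) (v : V3) : V3 := (u * v.1, u * v.2.1, u * v.2.2)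

/-- The icosian `h`. -/
def hE : Ico := ⟨⟨2, -2⟩, ⟨1, 0⟩, ⟨-1, 1⟩, ⟨1, -1⟩⟩

/-- Its conjugate. -/
def hB : Ico := hE.conj

/-- The test for lying in the lattice. -/
def inL (v : V3) : Bool :=
  code ((v.1 - v.2.1) * hB) == 0 && code ((v.2.1 - v.2.2) * hB) == 0 &&
    code ((v.1 + v.2.1 + v.2.2) * hE) == 0

/-- The square length. -/
def nrm3 (v : V3) : Zt := Ico.nrm v.1 + Ico.nrm v.2.1 + Ico.nrm v.2.2

/-- The Hermitian product. -/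
def ip (x r : V3) : Ico := x.1 * r.1.conj + x.2.1 * r.2.1.conj + x.2.2 * r.2.2.conj

theorem toQ_hE : hE.toQ = icoH := by
  ext <;> simp [hE, icoH, Zt.val, Zt.sig_eq] <;> unfold tau <;>
    nlinarith [Real.mul_self_sqrt (show (0 : ℝ) ≤ 5 by norm_num)]

theorem toQ_hB : hB.toQ = star icoH := by rw [hB, Ico.toQ_conj, toQ_hE]

theorem code_eq_iff (x y : Ico) : code x = code y ↔
    (x.z0.a % 2 = y.z0.a % 2 ∧ x.z0.b % 2 = y.z0.b % 2) ∧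
    (x.z1.a % 2 = y.z1.a % 2 ∧ x.z1.b % 2 = y.z1.b % 2) ∧
    (x.z2.a % 2 = y.z2.a % 2 ∧ x.z2.b % 2 = y.z2.b % 2) ∧
    (x.z3.a % 2 = y.z3.a % 2 ∧ x.z3.b % 2 = y.z3.b % 2) := by
  obtain ⟨⟨a, b⟩, ⟨c, d⟩, ⟨e, f⟩, ⟨g, k⟩⟩ := x
  obtain ⟨⟨a', b'⟩, ⟨c', d'⟩, ⟨e', f'⟩, ⟨g', k'⟩⟩ := y
  simp only [code, parCons_eq_iff, and_true, and_assoc]

theorem code_eq_zero_iff (x : Ico) : code x = 0 ↔
    (x.z0.a % 2 = 0 ∧ x.z0.b % 2 = 0) ∧ (x.z1.a % 2 = 0 ∧ x.z1.b % 2 = 0) ∧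
    (x.z2.a % 2 = 0 ∧ x.z2.b % 2 = 0) ∧ (x.z3.a % 2 = 0 ∧ x.z3.b % 2 = 0) := by
  obtain ⟨⟨a, b⟩, ⟨c, d⟩, ⟨e, f⟩, ⟨g, k⟩⟩ := x
  simp only [code, parCons_eq_zero, and_true, and_assoc]

theorem bit_code_eq (x : Ico) : code x = 0 ↔ ∃ y : Ico, x = y + y := by
  constructor
  · intro h
    rw [code_eq_zero_iff] at h
    obtain ⟨⟨a, b⟩, ⟨c, d⟩, ⟨e, f⟩, ⟨g, k⟩⟩ := x
    refine ⟨⟨⟨a / 2, b / 2⟩, ⟨c / 2, d / 2⟩, ⟨e / 2, f / 2⟩, ⟨g / 2, k / 2⟩⟩, ?_⟩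
    show _ = Ico.add _ _
    simp only [Ico.add, Ico.mk.injEq]
    simp only at h
    refine ⟨?_, ?_, ?_, ?_⟩ <;> ext <;> simp <;> omega
  · rintro ⟨y, rfl⟩
    rw [code_eq_zero_iff]
    show ((Ico.add y y).z0.a % 2 = 0 ∧ (Ico.add y y).z0.b % 2 = 0) ∧
      ((Ico.add y y).z1.a % 2 = 0 ∧ (Ico.add y y).z1.b % 2 = 0) ∧
      ((Ico.add y y).z2.a % 2 = 0 ∧ (Ico.add y y).z2.b % 2 = 0) ∧
      ((Ico.add y y).z3.a % 2 = 0 ∧ (Ico.add y y).z3.b % 2 = 0)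
    simp only [Ico.add, Zt.a_add, Zt.b_add]
    omega

theorem code_sub (x y : Ico) : code x = code y ↔ code (x - y) = 0 := by
  rw [code_eq_iff, code_eq_zero_iff]
  show _ ↔ ((Ico.sub x y).z0.a % 2 = 0 ∧ (Ico.sub x y).z0.b % 2 = 0) ∧
    ((Ico.sub x y).z1.a % 2 = 0 ∧ (Ico.sub x y).z1.b % 2 = 0) ∧
    ((Ico.sub x y).z2.a % 2 = 0 ∧ (Ico.sub x y).z2.b % 2 = 0) ∧
    ((Ico.sub x y).z3.a % 2 = 0 ∧ (Ico.sub x y).z3.b % 2 = 0)
  simp only [Ico.sub, Zt.a_sub, Zt.b_sub]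
  omega

theorem code_add (x y : Ico) : code x = code y ↔ code (x + y) = 0 := by
  rw [code_eq_iff, code_eq_zero_iff]
  show _ ↔ ((Ico.add x y).z0.a % 2 = 0 ∧ (Ico.add x y).z0.b % 2 = 0) ∧
    ((Ico.add x y).z1.a % 2 = 0 ∧ (Ico.add x y).z1.b % 2 = 0) ∧
    ((Ico.add x y).z2.a % 2 = 0 ∧ (Ico.add x y).z2.b % 2 = 0) ∧
    ((Ico.add x y).z3.a % 2 = 0 ∧ (Ico.add x y).z3.b % 2 = 0)
  simp only [Ico.add, Zt.a_add, Zt.b_add]
  omega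

theorem mem_leftIdeal_iff {q q' : Ico} (h : q' * q = ⟨⟨2, 0⟩, 0, 0, 0⟩) (h' : q * q' = q' * q)
    (x : Ico) : x.toQ ∈ leftIdeal q.toQ ↔ code (x * q') = 0 := by
  have two : (⟨⟨2, 0⟩, 0, 0, 0⟩ : Ico).toQ = 2 := by
    rw [show (2 : ℍ[ℝ]) = ((2 : ℝ) : ℍ[ℝ]) from (map_ofNat (algebraMap ℝ ℍ[ℝ]) 2).symm]
    ext <;> simp [Zt.val]
  rw [bit_code_eq]
  constructor
  · rintro ⟨a, ha, e⟩
    obtain ⟨y, rfl⟩ := mem_icosians_iff.1 ha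
    refine ⟨y, Ico.toQ_injective ?_⟩
    rw [Ico.toQ_mul, e, mul_assoc, ← Ico.toQ_mul q, h', h, two, Ico.toQ_add, mul_two]
  · rintro ⟨y, hy⟩
    refine ⟨y.toQ, mem_icosians_iff.2 ⟨y, rfl⟩, ?_⟩
    have e := congrArg (fun z : Ico => z.toQ * q.toQ) hy
    simp only [Ico.toQ_mul, Ico.toQ_add, mul_assoc] at e
    rw [← Ico.toQ_mul q', h, two, mul_two, add_mul, ← two_mul, ← two_mul] at e
    refine mul_left_cancel₀ (fun h0 => ?_) e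
    have e2 : (⟨⟨2, 0⟩, 0, 0, 0⟩ : Ico) = 0 := Ico.toQ_injective (by rw [two, Ico.toQ_zero, h0])
    exact absurd e2 (by decide)

theorem hB_hE : hB * hE = ⟨⟨2, 0⟩, 0, 0, 0⟩ := by decide

theorem hE_hB : hE * hB = ⟨⟨2, 0⟩, 0, 0, 0⟩ := by decide

theorem toV_injective : Function.Injective toV := by
  rintro ⟨a, b, c⟩ ⟨a', b', c'⟩ h
  have h0 := congrFun h 0
  have h1 := congrFun h 1
  have h2 := congrFun h 2
  simp [toV] at h0 h1 h2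
  rw [Ico.toQ_injective h0, Ico.toQ_injective h1, Ico.toQ_injective h2]

theorem toV_mem_iff (v : V3) : toV v ∈ icoLeech ↔ inL v = true := by
  have m : ∀ x : Ico, x.toQ ∈ icosians := fun x => mem_icosians_iff.2 ⟨x, rfl⟩
  simp only [icoLeech, Set.mem_ofPred_eq, inL, Bool.and_eq_true, beq_iff_eq]
  have e0 : toV v 0 = v.1.toQ := rfl
  have e1 : toV v 1 = v.2.1.toQ := rfl
  have e2 : toV v 2 = v.2.2.toQ := rfl
  rw [e0, e1, e2, ← Ico.toQ_sub, ← Ico.toQ_sub, ← Ico.toQ_add, ← Ico.toQ_add, ← toQ_hE,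
    ← Ico.toQ_conj, show hE.conj = hB from rfl,
    mem_leftIdeal_iff hB_hE (hE_hB.trans hB_hE.symm), mem_leftIdeal_iff hB_hE (hE_hB.trans hB_hE.symm),
    mem_leftIdeal_iff hE_hB (hB_hE.trans hE_hB.symm)]
  refine ⟨fun h => ⟨⟨h.2.1, h.2.2.1⟩, h.2.2.2⟩, fun h => ⟨fun t => ?_, h.1.1, h.1.2, h.2⟩⟩
  fin_cases t
  · exact m v.1
  · exact m v.2.1
  · exact m v.2.2

theorem exists_toV {r : Fin 3 → ℍ[ℝ]} (hr : r ∈ icoLeech) : ∃ v : V3, r = toV v := by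
  obtain ⟨h, -⟩ := hr
  obtain ⟨a, ha⟩ := mem_icosians_iff.1 (h 0)
  obtain ⟨b, hb⟩ := mem_icosians_iff.1 (h 1)
  obtain ⟨c, hc⟩ := mem_icosians_iff.1 (h 2)
  refine ⟨(a, b, c), funext fun t => ?_⟩
  fin_cases t <;> simp [toV, ha, hb, hc]

theorem qip_toV (x r : V3) : qip (toV x) (toV r) = (ip x r).toQ := by
  simp [qip, ip, toV, Fin.sum_univ_three]

theorem toV_lmul (u : Ico) (v : V3) : toV (V3.lmul u v) = fun t => u.toQ * toV v t := by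
  funext t
  fin_cases t <;> simp [toV, V3.lmul]

theorem lmul_mem {q : ℍ[ℝ]} (hq : q ∈ icosians) {r : Fin 3 → ℍ[ℝ]} (hr : r ∈ icoLeech) :
    (fun t => q * r t) ∈ icoLeech := by
  obtain ⟨h, ⟨a, ha, ea⟩, ⟨b, hb, eb⟩, c, hc, ec⟩ := hr
  refine ⟨fun t => mul_mem hq (h t), ⟨q * a, mul_mem hq ha, ?_⟩, ⟨q * b, mul_mem hq hb, ?_⟩,
    q * c, mul_mem hq hc, ?_⟩
  · rw [← mul_sub, ea, mul_assoc]
  · rw [← mul_sub, eb, mul_assoc]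
  · rw [← mul_add, ← mul_add, ec, mul_assoc]

theorem mul_conj_self (x : Ico) : x * x.conj = ⟨Ico.nrm x, 0, 0, 0⟩ := by
  obtain ⟨a, b, c, d⟩ := x
  show Ico.mul _ _ = _
  simp only [Ico.nrm]
  show _ = (⟨(Ico.mul _ _).z0, 0, 0, 0⟩ : Ico)
  simp only [Ico.mul, Ico.conj, Ico.mk.injEq, true_and]
  refine ⟨?_, ?_, ?_⟩ <;> ext <;> simp [Zt.s] <;> ring

theorem toQ_scalar (z : Zt) : (⟨z, 0, 0, 0⟩ : Ico).toQ = (z.val : ℍ[ℝ]) := by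
  ext <;> simp

theorem normSq_toQ (x : Ico) : Quaternion.normSq x.toQ = (Ico.nrm x).val := by
  have h := congrArg Ico.toQ (mul_conj_self x)
  rw [Ico.toQ_mul, Ico.toQ_conj, toQ_scalar, Quaternion.self_mul_star] at h
  exact Quaternion.coe_injective h

theorem eq_zero_of_nrm {x : Ico} (h : Ico.nrm x = 0) : x = 0 := by
  refine Ico.toQ_injective ?_
  rw [Ico.toQ_zero]
  refine Quaternion.normSq_eq_zero.1 ?_
  rw [normSq_toQ, h, Zt.val_zero]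

theorem qip_self_iff (v : V3) : qip (toV v) (toV v) = 4 ↔ nrm3 v = ⟨4, 0⟩ := by
  rw [qip_toV, ip, mul_conj_self, mul_conj_self, mul_conj_self, Ico.toQ_add, Ico.toQ_add,
    toQ_scalar, toQ_scalar, toQ_scalar, ← Quaternion.coe_add, ← Quaternion.coe_add,
    show (4 : ℍ[ℝ]) = ((4 : ℝ) : ℍ[ℝ]) from (map_ofNat (algebraMap ℝ ℍ[ℝ]) 4).symm,
    Quaternion.coe_inj, ← Zt.val_add, ← Zt.val_add,
    show (4 : ℝ) = Zt.val ⟨4, 0⟩ by simp [Zt.val]]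
  exact ⟨fun h => Zt.val_injective h, fun h => congrArg Zt.val h⟩

/-- A totally nonnegative number. -/
def nonnegZ (p : Zt) : Bool :=
  decide (0 ≤ p.a * p.a + p.a * p.b - p.b * p.b) && decide (0 ≤ 2 * p.a + p.b) &&
    decide (p = 0 ∨ 1 ≤ p.a)

theorem nonneg_nrm (x : Ico) : nonnegZ (Ico.nrm x) = true := by
  have key : ∀ w : ℝ, w * w = w + 1 →
      0 ≤ ((Ico.nrm x).a : ℝ) + (Ico.nrm x).b * w := by
    intro w hw
    set C := x.dbl with hC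
    have h : (⟨4 * (Ico.nrm x).a, 4 * (Ico.nrm x).b⟩ : Zt) =
        C.1 * C.1 + C.2.1 * C.2.1 + C.2.2.1 * C.2.2.1 + C.2.2.2 * C.2.2.2 := by
      obtain ⟨a, b, c, d⟩ := x
      show (⟨4 * (Ico.mul _ _).z0.a, 4 * (Ico.mul _ _).z0.b⟩ : Zt) = _
      ext <;> simp [hC, Ico.conj, Ico.dbl, Ico.mul, Zt.s, Zt.t] <;> ring
    have e : ∀ p : Zt, ((p * p).a : ℝ) + (p * p).b * w = ((p.a : ℝ) + p.b * w) ^ 2 := by
      intro p
      simp only [Zt.a_mul, Zt.b_mul]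
      push_cast
      linear_combination (-(p.b : ℝ) * p.b) * hw
    have h' := congrArg (fun p : Zt => (p.a : ℝ) + p.b * w) h
    simp only [Zt.a_add, Zt.b_add, Int.cast_add, add_mul] at h'
    push_cast at h'
    nlinarith [e C.1, e C.2.1, e C.2.2.1, e C.2.2.2, sq_nonneg ((C.1.a : ℝ) + C.1.b * w),
      sq_nonneg ((C.2.1.a : ℝ) + C.2.1.b * w), sq_nonneg ((C.2.2.1.a : ℝ) + C.2.2.1.b * w),
      sq_nonneg ((C.2.2.2.a : ℝ) + C.2.2.2.b * w)]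
  have h1 := key tau Zt.tau_sq
  have h2 := key sig (by rw [Zt.sig_eq]; linear_combination Zt.tau_sq)
  have hp := mul_nonneg h1 h2
  set p := Ico.nrm x with hp'
  have hsum := add_nonneg h1 h2
  rw [Zt.sig_eq] at hp hsum
  have i1 : 0 ≤ p.a * p.a + p.a * p.b - p.b * p.b := by
    have : (0 : ℝ) ≤ ((p.a * p.a + p.a * p.b - p.b * p.b : ℤ) : ℝ) := by
      push_cast
      linear_combination hp - (p.b : ℝ) * p.b * Zt.tau_sq
    exact_mod_cast this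
  have i2 : 0 ≤ 2 * p.a + p.b := by
    have : (0 : ℝ) ≤ ((2 * p.a + p.b : ℤ) : ℝ) := by
      push_cast
      linarith
    exact_mod_cast this
  have i3 : p = 0 ∨ 1 ≤ p.a := by
    rcases lt_or_ge 0 p.a with h | h
    · exact Or.inr h
    · left
      have hb : p.b * p.b ≤ 0 := by nlinarith
      have hb0 : p.b = 0 := mul_self_eq_zero.1 (le_antisymm hb (mul_self_nonneg _))
      exact Zt.ext (show p.a = 0 by omega) hb0
  simp only [nonnegZ, Bool.and_eq_true, decide_eq_true_eq]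
  exact ⟨⟨i1, i2⟩, i3⟩

end Cfsg.IcoLeech

end
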