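import Cfsg.Agent.IcoLeech.Cover
import Cfsg.Agent.IcoLeech.Cands

/-! The minimal vectors of the icosian Leech lattice. -/

set_option autoImplicit false
set_option maxRecDepth 100000

noncomputable section

namespace Cfsg.IcoLeech

open Quaternion Cfsg.Spor Data

/-- The first nonzero component. -/
def lead (v : V3) : Ico := if v.1 ≠ 0 then v.1 else if v.2.1 ≠ 0 then v.2.1 else v.2.2

theorem units_spec : ∀ u ∈ units, u.conj * u = 1 ∧ u * u.conj = 1 := by decide +kernel

theorem units_length : units.length = 120 := by decide +kernel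

theorem lines_length : lines.length = 315 := by decide +kernel

theorem lines_spec :
    (lines.all fun l => inL l && nrm3 l == ⟨4, 0⟩ && reps.contains (lead l)) = true := by
  decide +kernel

theorem orbit_nodup : orbitList.Nodup := by
  refine List.Nodup.of_map packI ?_
  show orbitPacks.Nodup
  rw [List.nodup_iff_count_le_one]
  intro q
  by_cases hq : q ∈ orbitPacks
  · have h := List.all_eq_true.1 nodupB_eq q hq
    rw [beq_iff_eq] at h
    rw [← Trie.count_get packKey 12]
    exact h.le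
  · rw [List.count_eq_zero.2 hq]
    exact Nat.zero_le 1

theorem mem_orbitList {q : Ico} (hq : Ico.nrm q ∈ classes) : q ∈ orbitList := by
  have h := List.all_eq_true.1 coverB_eq _ (mem_leaves hq)
  have h' := Trie.mem_of_mem_get packKey 12 _ _ _ (List.contains_iff_mem.1 h)
  obtain ⟨p, hp, e⟩ := List.mem_map.1 h'
  have hu : (Ico.nrm q).a ≤ 4 := (by decide : ∀ p ∈ classes, p.a ≤ 4) _ hq
  rwa [← packI_inj (List.all_eq_true.1 orbit_box p hp) (inBox_of_nrm hu) e]

theorem exists_unit_rep {q : Ico} (hq : Ico.nrm q ∈ classes) :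
    ∃ u ∈ units, ∃ r ∈ reps, q = u * r := by
  have h' := mem_orbitList hq
  simp only [orbitList, List.mem_flatMap, List.mem_map] at h'
  obtain ⟨r, hr, u, hu, rfl⟩ := h'
  exact ⟨u, hu, r, hr, rfl⟩

theorem unit_rep_unique {u u' r r' : Ico} (hu : u ∈ units) (hu' : u' ∈ units) (hr : r ∈ reps)
    (hr' : r' ∈ reps) (h : u * r = u' * r') : u = u' ∧ r = r' := by
  have hd := List.nodup_flatMap.1 orbit_nodup
  have hr2 : r = r' := by
    by_contra hne
    have : Std.Symm (Function.onFun (List.Disjoint (α := Ico)) fun r => units.map fun u => u * r) :=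
      ⟨fun a b hab => List.Disjoint.symm hab⟩
    exact (hd.2.forall hr hr' hne)
      (List.mem_map.2 ⟨u, hu, rfl⟩) (List.mem_map.2 ⟨u', hu', h.symm⟩)
  subst hr2
  exact ⟨List.inj_on_of_nodup_map (hd.1 r hr) hu hu' h, rfl⟩

theorem nrm_cases {a b c : Ico} (h : nrm3 (a, b, c) = ⟨4, 0⟩) :
    ∀ x ∈ [a, b, c], x = 0 ∨ Ico.nrm x ∈ classes := by
  have key : ∀ p ∈ (List.range 5).flatMap (fun u => (List.range 25).map fun v =>
      (⟨Int.ofNat u, Int.ofNat v - 12⟩ : Zt)), nonnegZ p = true →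
      ∀ q ∈ (List.range 5).flatMap (fun u => (List.range 25).map fun v =>
        (⟨Int.ofNat u, Int.ofNat v - 12⟩ : Zt)), nonnegZ q = true →
      nonnegZ (⟨4, 0⟩ - p - q) = true →
      p = 0 ∨ p ∈ classes := by decide +kernel
  have bound : ∀ p : Zt, nonnegZ p = true → 0 ≤ p.a ∧ -2 * p.a ≤ p.b ∧ p.b ≤ 2 * p.a := by
    intro p hp
    simp only [nonnegZ, Bool.and_eq_true, decide_eq_true_eq] at hp
    obtain ⟨⟨h1, h2⟩, h3 | h3⟩ := hp
    · subst h3; simp
    · refine ⟨by omega, by omega, ?_⟩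
      by_contra hc
      nlinarith
  have mem : ∀ p : Zt, 0 ≤ p.a → p.a ≤ 4 → -2 * p.a ≤ p.b → p.b ≤ 2 * p.a →
      p ∈ (List.range 5).flatMap (fun u => (List.range 25).map fun v =>
        (⟨Int.ofNat u, Int.ofNat v - 12⟩ : Zt)) := by
    intro p h1 h2 h3 h4
    refine List.mem_flatMap.2 ⟨p.a.toNat, List.mem_range.2 (by omega),
      List.mem_map.2 ⟨(p.b + 12).toNat, List.mem_range.2 (by omega), ?_⟩⟩
    ext <;> simp only [Int.ofNat_eq_natCast] <;> omega
  have main : ∀ p q r : Zt, nonnegZ p = true → nonnegZ q = true → nonnegZ r = true →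
      p + q + r = ⟨4, 0⟩ → p = 0 ∨ p ∈ classes := by
    intro p q r hp hq hr hs
    have hsa := congrArg Zt.a hs
    simp only [Zt.a_add] at hsa
    obtain ⟨p1, p2, p3⟩ := bound p hp
    obtain ⟨q1, q2, q3⟩ := bound q hq
    have r1 := (bound r hr).1
    refine key p (mem p p1 (by omega) p2 p3) hp q (mem q q1 (by omega) q2 q3) hq ?_
    have e : r = ⟨4, 0⟩ - p - q := by rw [← hs]; ext <;> simp <;> ring
    rwa [← e]
  have ha := nonneg_nrm a
  have hb := nonneg_nrm b
  have hc := nonneg_nrm c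
  simp only [nrm3] at h
  have h' : Ico.nrm b + Ico.nrm a + Ico.nrm c = ⟨4, 0⟩ := by rw [← h]; ext <;> simp <;> ring
  have h'' : Ico.nrm c + Ico.nrm a + Ico.nrm b = ⟨4, 0⟩ := by rw [← h]; ext <;> simp <;> ring
  intro x hx
  simp only [List.mem_cons, List.not_mem_nil, or_false] at hx
  rcases hx with rfl | rfl | rfl
  · exact (main _ _ _ ha hb hc h).imp eq_zero_of_nrm id
  · exact (main _ _ _ hb ha hc h').imp eq_zero_of_nrm id
  · exact (main _ _ _ hc ha hb h'').imp eq_zero_of_nrm id

theorem lead_mem {v : V3} (h : nrm3 v = ⟨4, 0⟩) : Ico.nrm (lead v) ∈ classes := by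
  obtain ⟨a, b, c⟩ := v
  have hc := nrm_cases h
  have hne : a ≠ 0 ∨ b ≠ 0 ∨ c ≠ 0 := by
    by_contra hcon
    push Not at hcon
    obtain ⟨rfl, rfl, rfl⟩ := hcon
    exact absurd h (by decide)
  simp only [lead]
  split_ifs with h1 h2
  · exact (hc a (by simp)).resolve_left h1
  · exact (hc b (by simp)).resolve_left h2
  · exact (hc c (by simp)).resolve_left (by tauto)

theorem nrm_unit_mul {u : Ico} (hu : u ∈ units) (x : Ico) :
    Ico.nrm (u * x) = Ico.nrm x ∧ Ico.nrm (u.conj * x) = Ico.nrm x := by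
  have h1 : Quaternion.normSq u.toQ = 1 := by
    have h2 := congrArg Ico.toQ (units_spec u hu).1
    rw [Ico.toQ_mul, Ico.toQ_one, Ico.toQ_conj, Quaternion.star_mul_self] at h2
    exact Quaternion.coe_injective (h2.trans (map_one (algebraMap ℝ ℍ[ℝ])).symm)
  refine ⟨Zt.val_injective ?_, Zt.val_injective ?_⟩
  · rw [← normSq_toQ, ← normSq_toQ, Ico.toQ_mul, map_mul, h1, one_mul]
  · rw [← normSq_toQ, ← normSq_toQ, Ico.toQ_mul, map_mul, Ico.toQ_conj, Quaternion.normSq_star, h1,
      one_mul]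

theorem mem_pool {x : Ico} (h : x = 0 ∨ Ico.nrm x ∈ classes) : (Ico.nrm x, x) ∈ pool := by
  rcases h with rfl | h
  · rw [show Ico.nrm 0 = 0 by decide]
    exact List.mem_cons_self
  · obtain ⟨u, hu, r, hr, rfl⟩ := exists_unit_rep h
    rw [(nrm_unit_mul hu r).1]
    exact List.mem_cons_of_mem _ (List.mem_flatMap.2 ⟨r, hr, List.mem_map.2 ⟨u, hu, rfl⟩⟩)

theorem mem_candAll (E : List (Zt × Ico)) {a b c : Ico} (hL : inL (a, b, c) = true)
    (h : nrm3 (a, b, c) = ⟨4, 0⟩) (hb : (Ico.nrm b, b) ∈ E) (hc : (Ico.nrm c, c) ∈ E)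
    (hok : okRem (Ico.nrm c) = true) (hlead : lead (a, b, c) ∈ reps) :
    (a, b, c) ∈ candAll E := by
  simp only [inL, Bool.and_eq_true, beq_iff_eq] at hL
  obtain ⟨⟨hab, hbc⟩, habc⟩ := hL
  have e : ∀ p q r : Ico, (p - q) * r = p * r - q * r := fun p q r =>
    Ico.toQ_injective (by simp [sub_mul])
  have e' : ∀ p q r : Ico, (p + q) * r = p * r + q * r := fun p q r =>
    Ico.toQ_injective (by simp [add_mul])
  rw [e, ← code_sub] at hab hbc
  rw [e', ← code_add] at habc
  have hkey : hgKey c = hKey a * 256 + code ((a + b) * hE) := by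
    simp only [hgKey, hKey, ← habc, hab, hbc]
  have hy := Trie.mem_get (fun p : Zt × Ico => hKey p.2) 8 hb
  simp only [show hKey b = hKey a from hab.symm] at hy
  have hz := Trie.mem_get (fun p : Zt × Ico => hgKey p.2) 16 hc
  simp only [hkey] at hz
  have hn : Ico.nrm c = ⟨4, 0⟩ - Ico.nrm a - Ico.nrm b := by
    rw [← h]
    ext <;> simp [nrm3] <;> ring
  have zm : ∀ r : Ico, (0 : Ico) * r = 0 := fun r => Ico.toQ_injective (by simp)
  have za : ∀ r : Ico, (0 : Ico) + r = r := fun r => Ico.toQ_injective (by simp)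
  have hk0 : code (0 : Ico) = 0 := by decide
  have n0 : Ico.nrm (0 : Ico) = 0 := by decide
  refine List.mem_flatMap.2 ⟨lead (a, b, c), hlead, ?_⟩
  simp only [candAt, List.mem_append]
  by_cases ha : a = 0
  · subst ha
    rw [za] at hz
    have hb0 : hKey b = 0 := by
      show code (b * hB) = 0
      rw [← hab, zm, hk0]
    by_cases hb' : b = 0
    · subst hb'
      right
      have hc0 : hKey c = 0 := by
        show code (c * hB) = 0
        rw [← hbc, zm, hk0]
      have hc1 : code (c * hE) = 0 := by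
        rw [← habc, za, zm, hk0]
      have hlc : lead ((0 : Ico), (0 : Ico), c) = c := by simp [lead]
      have hn' : Ico.nrm c = ⟨4, 0⟩ := by
        rw [hn, n0]; ext <;> simp
      rw [hlc, hn']
      simp [hc0, hc1]
    · left; right
      have hlb : lead ((0 : Ico), b, c) = b := by simp [lead, hb']
      rw [hlb]
      refine List.mem_map.2 ⟨(Ico.nrm c, c), List.mem_filter.2 ⟨?_, ?_⟩, rfl⟩
      · simp only [hb0, beq_self_eq_true, cond_true]
        have : hKey (0 : Ico) = 0 := by show code ((0 : Ico) * hB) = 0; rw [zm, hk0]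
        rw [this] at hz
        exact hz
      · rw [beq_iff_eq, hn, n0]
        ext <;> simp
  · left; left
    have hla : lead (a, b, c) = a := by simp [lead, ha]
    rw [hla]
    refine List.mem_flatMap.2 ⟨(Ico.nrm b, b), hy, ?_⟩
    refine mem_cond (by rw [← hn]; exact hok) ?_
    exact List.mem_map.2 ⟨(Ico.nrm c, c), List.mem_filter.2 ⟨hz, beq_iff_eq.2 hn⟩, rfl⟩

theorem mem_lines_of_lead {v : V3} (hL : inL v = true) (h : nrm3 v = ⟨4, 0⟩)
    (hlead : lead v ∈ reps) : v ∈ lines := by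
  obtain ⟨a, b, c⟩ := v
  have hc := nrm_cases h
  rw [← candAll_eq]
  refine mem_candAll pool hL h (mem_pool (hc b (by simp))) (mem_pool (hc c (by simp))) ?_ hlead
  rcases hc c (by simp) with hz | hz
  · rw [hz]; decide
  · simp [okRem, hz]

theorem toV_lmul_inj {u u' : Ico} {l l' : V3} (hu : u ∈ units) (hu' : u' ∈ units)
    (hl : l ∈ lines) (hl' : l' ∈ lines) (h : V3.lmul u l = V3.lmul u' l') : u = u' ∧ l = l' := by
  have hs := List.all_eq_true.1 lines_spec
  have hlead : ∀ w ∈ units, ∀ m : V3, lead (V3.lmul w m) = w * lead m := by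
    intro w hw m
    have hw0 : ∀ x : Ico, w * x = 0 ↔ x = 0 := by
      intro x
      refine ⟨fun he => Ico.toQ_injective ?_, fun he => by subst he; exact Ico.toQ_injective (by simp)⟩
      have e := congrArg Ico.toQ (congrArg (fun z => w.conj * z) he)
      simp only [Ico.toQ_mul, Ico.toQ_zero, mul_zero, ← mul_assoc] at e
      rw [← Ico.toQ_mul, (units_spec w hw).1, Ico.toQ_one, one_mul] at e
      rw [e, Ico.toQ_zero]
    simp only [lead, V3.lmul, ne_eq, hw0]
    split_ifs <;> rfl
  have h1 := congrArg lead h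
  rw [hlead u hu, hlead u' hu'] at h1
  have r1 := hs l hl
  have r2 := hs l' hl'
  simp only [Bool.and_eq_true, List.contains_iff_mem] at r1 r2
  obtain ⟨rfl, -⟩ := unit_rep_unique hu hu' r1.2 r2.2 h1
  refine ⟨rfl, ?_⟩
  have e := congrArg (V3.lmul u.conj) h
  have hid : ∀ m : V3, V3.lmul u.conj (V3.lmul u m) = m := fun m => toV_injective (by
    funext t
    simp only [toV_lmul]
    rw [← mul_assoc, ← Ico.toQ_mul, (units_spec u hu).1, Ico.toQ_one, one_mul])
  rwa [hid, hid] at e

/-- A minimal vector is a unit multiple of a line. -/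
theorem exists_line {r : Fin 3 → ℍ[ℝ]} (hr : r ∈ icoLeech) (h4 : qip r r = 4) :
    ∃ u ∈ units, ∃ l ∈ lines, r = toV (V3.lmul u l) := by
  obtain ⟨v, rfl⟩ := exists_toV hr
  rw [qip_self_iff] at h4
  obtain ⟨u, hu, q, hq, e⟩ := exists_unit_rep (lead_mem h4)
  have hmem := lmul_mem (mem_icosians_iff.2 ⟨u.conj, rfl⟩) hr
  rw [← toV_lmul] at hmem
  have hback : V3.lmul u (V3.lmul u.conj v) = v := toV_injective (by
    funext t
    simp only [toV_lmul]
    rw [← mul_assoc, ← Ico.toQ_mul, (units_spec u hu).2, Ico.toQ_one, one_mul])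
  refine ⟨u, hu, V3.lmul u.conj v, mem_lines_of_lead ((toV_mem_iff _).1 hmem) ?_ ?_, by rw [hback]⟩
  · have hn : ∀ x : Ico, Ico.nrm (u.conj * x) = Ico.nrm x := fun x => (nrm_unit_mul hu x).2
    simp only [nrm3, V3.lmul, hn]
    exact h4
  · have hlu : lead (V3.lmul u.conj v) = q := by
      have hc0 : ∀ x : Ico, u.conj * x = 0 ↔ x = 0 := by
        intro x
        refine ⟨fun he => Ico.toQ_injective ?_, fun he => by subst he; exact Ico.toQ_injective (by simp)⟩
        have e := congrArg Ico.toQ (congrArg (fun z => u * z) he)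
        simp only [Ico.toQ_mul, Ico.toQ_zero, mul_zero, ← mul_assoc] at e
        rw [← Ico.toQ_mul, (units_spec u hu).2, Ico.toQ_one, one_mul] at e
        rw [e, Ico.toQ_zero]
      have : lead (V3.lmul u.conj v) = u.conj * lead v := by
        simp only [lead, V3.lmul, ne_eq, hc0]
        split_ifs <;> rfl
      rw [this, e]
      exact Ico.toQ_injective (by
        rw [Ico.toQ_mul, Ico.toQ_mul, ← mul_assoc, ← Ico.toQ_mul, (units_spec u hu).1, Ico.toQ_one,
          one_mul])
    rw [hlu]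
    exact hq

theorem line_mem {l : V3} (hl : l ∈ lines) : toV l ∈ icoLeech ∧ qip (toV l) (toV l) = 4 := by
  have h := List.all_eq_true.1 lines_spec l hl
  simp only [Bool.and_eq_true, beq_iff_eq] at h
  exact ⟨(toV_mem_iff l).2 h.1.1, (qip_self_iff l).2 h.1.2⟩

end Cfsg.IcoLeech

end
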