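import Cfsg.Prelude.Def_Spor_J2

/-! Integer coordinates for the icosian ring. -/

set_option autoImplicit false

noncomputable section

namespace Cfsg.IcoLeech

open Quaternion Cfsg.Spor

/-- `a + b τ`. -/
structure Zt where
  a : ℤ
  b : ℤ
deriving DecidableEq

namespace Zt

/-- Addition. -/
protected def add (x y : Zt) : Zt := ⟨x.a + y.a, x.b + y.b⟩

/-- Negation. -/
protected def neg (x : Zt) : Zt := ⟨-x.a, -x.b⟩

/-- Difference. -/
protected def sub (x y : Zt) : Zt := ⟨x.a - y.a, x.b - y.b⟩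

/-- Multiplication. -/
protected def mul (x y : Zt) : Zt := ⟨x.a * y.a + x.b * y.b, x.a * y.b + x.b * y.a + x.b * y.b⟩

instance : Add Zt := ⟨Zt.add⟩
instance : Neg Zt := ⟨Zt.neg⟩
instance : Sub Zt := ⟨Zt.sub⟩
instance : Mul Zt := ⟨Zt.mul⟩
instance : Zero Zt := ⟨⟨0, 0⟩⟩
instance : One Zt := ⟨⟨1, 0⟩⟩

/-- `σ`. -/
def s : Zt := ⟨1, -1⟩

/-- `τ`. -/
def t : Zt := ⟨0, 1⟩

/-- The real value. -/
def val (x : Zt) : ℝ := (x.a : ℝ) + (x.b : ℝ) * tau

theorem tau_sq : tau * tau = tau + 1 := by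
  unfold tau
  nlinarith [Real.mul_self_sqrt (show (0 : ℝ) ≤ 5 by norm_num)]

theorem sig_eq : sig = 1 - tau := by
  unfold sig tau
  ring

@[simp] theorem val_add (x y : Zt) : val (x + y) = val x + val y := by
  show val (Zt.add x y) = _
  simp [val, Zt.add]
  ring

@[simp] theorem val_neg (x : Zt) : val (-x) = -val x := by
  show val (Zt.neg x) = _
  simp [val, Zt.neg]
  ring

@[simp] theorem val_sub (x y : Zt) : val (x - y) = val x - val y := by
  show val (Zt.sub x y) = _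
  simp [val, Zt.sub]
  ring

@[simp] theorem val_mul (x y : Zt) : val (x * y) = val x * val y := by
  show val (Zt.mul x y) = _
  simp only [val, Zt.mul, Int.cast_add, Int.cast_mul]
  linear_combination (-(x.b : ℝ) * y.b) * tau_sq

@[simp] theorem val_zero : val 0 = 0 := by
  show val ⟨0, 0⟩ = _
  simp [val]

@[simp] theorem val_one : val 1 = 1 := by
  show val ⟨1, 0⟩ = _
  simp [val]

@[simp] theorem val_s : val s = sig := by
  simp [val, s, sig_eq]
  ring

@[simp] theorem val_t : val t = tau := by simp [val, t]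

@[simp] theorem a_add (x y : Zt) : (x + y).a = x.a + y.a := rfl
@[simp] theorem b_add (x y : Zt) : (x + y).b = x.b + y.b := rfl
@[simp] theorem a_sub (x y : Zt) : (x - y).a = x.a - y.a := rfl
@[simp] theorem b_sub (x y : Zt) : (x - y).b = x.b - y.b := rfl
@[simp] theorem a_neg (x : Zt) : (-x).a = -x.a := rfl
@[simp] theorem b_neg (x : Zt) : (-x).b = -x.b := rfl
@[simp] theorem a_mul (x y : Zt) : (x * y).a = x.a * y.a + x.b * y.b := rfl
@[simp] theorem b_mul (x y : Zt) : (x * y).b = x.a * y.b + x.b * y.a + x.b * y.b := rfl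
@[simp] theorem a_zero : (0 : Zt).a = 0 := rfl
@[simp] theorem b_zero : (0 : Zt).b = 0 := rfl
@[simp] theorem a_one : (1 : Zt).a = 1 := rfl
@[simp] theorem b_one : (1 : Zt).b = 0 := rfl

@[ext] theorem ext {x y : Zt} (h₁ : x.a = y.a) (h₂ : x.b = y.b) : x = y := by
  cases x; cases y; simp_all

theorem val_injective : Function.Injective val := by
  intro x y h
  have hirr : Irrational tau := by
    have h5 : Irrational (Real.sqrt 5) := by
      simpa using (by norm_num : Nat.Prime 5).irrational_sqrt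
    have e : tau = (↑(1 / 2 : ℚ) : ℝ) + (↑(1 / 2 : ℚ) : ℝ) * Real.sqrt 5 := by
      unfold tau; push_cast; ring
    rw [e]
    exact (h5.ratCast_mul (by norm_num)).ratCast_add _
  have hb : x.b = y.b := by
    by_contra hne
    have hne' : ((x.b : ℝ) - y.b) ≠ 0 := sub_ne_zero.2 (by exact_mod_cast hne)
    have : tau = (↑(((y.a - x.a : ℤ) : ℚ) / ((x.b - y.b : ℤ) : ℚ)) : ℝ) := by
      push_cast
      rw [eq_div_iff hne']
      simp only [val] at h
      linarith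
    exact hirr.ne_rat _ this
  simp only [val, hb] at h
  obtain ⟨xa, xb⟩ := x
  obtain ⟨ya, yb⟩ := y
  simp_all

end Zt

/-- An icosian in coordinates with respect to `1, i, g, i g`, `g = ½(1 + σ i + τ k)`. -/
structure Ico where
  z0 : Zt
  z1 : Zt
  z2 : Zt
  z3 : Zt
deriving DecidableEq

namespace Ico

open Zt

/-- Addition. -/
protected def add (x y : Ico) : Ico := ⟨x.z0 + y.z0, x.z1 + y.z1, x.z2 + y.z2, x.z3 + y.z3⟩

/-- Difference. -/
protected def sub (x y : Ico) : Ico := ⟨x.z0 - y.z0, x.z1 - y.z1, x.z2 - y.z2, x.z3 - y.z3⟩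

/-- Negation. -/
protected def neg (x : Ico) : Ico := ⟨-x.z0, -x.z1, -x.z2, -x.z3⟩

/-- Multiplication. -/
protected def mul : Ico → Ico → Ico
  | ⟨a, b, c, d⟩, ⟨e, f, g, h⟩ =>
    ⟨a * e - b * f - c * g - s * (c * f) - d * f - d * h,
     a * f + b * e + c * f - s * (d * f) - d * g + c * h,
     a * g + c * e + c * g - b * h + d * f - s * (c * h),
     a * h + d * e + b * g - c * f + d * g - s * (d * h)⟩

instance : Add Ico := ⟨Ico.add⟩
instance : Sub Ico := ⟨Ico.sub⟩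
instance : Neg Ico := ⟨Ico.neg⟩
instance : Mul Ico := ⟨Ico.mul⟩
instance : Zero Ico := ⟨⟨⟨0, 0⟩, ⟨0, 0⟩, ⟨0, 0⟩, ⟨0, 0⟩⟩⟩
instance : One Ico := ⟨⟨⟨1, 0⟩, ⟨0, 0⟩, ⟨0, 0⟩, ⟨0, 0⟩⟩⟩

/-- Conjugation. -/
def conj : Ico → Ico
  | ⟨a, b, c, d⟩ => ⟨a + c - s * d, -b, -c, -d⟩

/-- The norm. -/
def nrm (x : Ico) : Zt := (x * x.conj).z0

/-- Twice the quaternion coordinates. -/
def dbl : Ico → Zt × Zt × Zt × Zt
  | ⟨a, b, c, d⟩ => (a + a + c - s * d, b + b + s * c + d, -(t * d), t * c)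

/-- The quaternion. -/
def toQ (x : Ico) : ℍ[ℝ] :=
  ⟨x.z0.val + x.z2.val / 2 - sig * x.z3.val / 2, x.z1.val + sig * x.z2.val / 2 + x.z3.val / 2,
    -(tau * x.z3.val / 2), tau * x.z2.val / 2⟩

@[simp] theorem re_toQ (x : Ico) :
    (toQ x).re = x.z0.val + x.z2.val / 2 - sig * x.z3.val / 2 := rfl

@[simp] theorem imI_toQ (x : Ico) :
    (toQ x).imI = x.z1.val + sig * x.z2.val / 2 + x.z3.val / 2 := rfl

@[simp] theorem imJ_toQ (x : Ico) : (toQ x).imJ = -(tau * x.z3.val / 2) := rfl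

@[simp] theorem imK_toQ (x : Ico) : (toQ x).imK = tau * x.z2.val / 2 := rfl

@[simp] theorem toQ_add (x y : Ico) : toQ (x + y) = toQ x + toQ y := by
  show toQ (Ico.add x y) = _
  ext <;> simp [Ico.add] <;> ring

@[simp] theorem toQ_sub (x y : Ico) : toQ (x - y) = toQ x - toQ y := by
  show toQ (Ico.sub x y) = _
  ext <;> simp [Ico.sub] <;> ring

@[simp] theorem toQ_neg (x : Ico) : toQ (-x) = -toQ x := by
  show toQ (Ico.neg x) = _
  ext <;> simp [Ico.neg] <;> ring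

@[simp] theorem toQ_zero : toQ 0 = 0 := by
  show toQ ⟨⟨0, 0⟩, ⟨0, 0⟩, ⟨0, 0⟩, ⟨0, 0⟩⟩ = _
  ext <;> simp [toQ, Zt.val]

@[simp] theorem toQ_one : toQ 1 = 1 := by
  show toQ ⟨⟨1, 0⟩, ⟨0, 0⟩, ⟨0, 0⟩, ⟨0, 0⟩⟩ = _
  ext <;> simp [toQ, Zt.val]

@[simp] theorem toQ_mul (x y : Ico) : toQ (x * y) = toQ x * toQ y := by
  obtain ⟨a, b, c, d⟩ := x
  obtain ⟨e, f, g, h⟩ := y
  show toQ (Ico.mul _ _) = _
  have t2 := tau_sq
  ext <;> simp [Ico.mul, sig_eq] <;> grind

@[simp] theorem toQ_conj (x : Ico) : toQ x.conj = star (toQ x) := by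
  obtain ⟨a, b, c, d⟩ := x
  ext <;> simp [Ico.conj] <;> ring

theorem toQ_injective : Function.Injective toQ := by
  intro x y h
  have h1 := congrArg QuaternionAlgebra.re h
  have h2 := congrArg QuaternionAlgebra.imI h
  have h3 := congrArg QuaternionAlgebra.imJ h
  have h4 := congrArg QuaternionAlgebra.imK h
  simp only [toQ] at h1 h2 h3 h4
  have ht : tau ≠ 0 := by
    intro h0; have := Zt.tau_sq; rw [h0] at this; norm_num at this
  have e3 : x.z3 = y.z3 := Zt.val_injective (mul_left_cancel₀ ht (by linarith))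
  have e2 : x.z2 = y.z2 := Zt.val_injective (mul_left_cancel₀ ht (by linarith))
  rw [e2, e3] at h1 h2
  have e0 : x.z0 = y.z0 := Zt.val_injective (by linarith)
  have e1 : x.z1 = y.z1 := Zt.val_injective (by linarith)
  cases x; cases y; simp_all

/-- `i`. -/
def genI : Ico := ⟨0, 1, 0, 0⟩

/-- `g`. -/
def genG : Ico := ⟨0, 0, 1, 0⟩

theorem toQ_genI : toQ genI = qI := by
  ext <;> simp [toQ, genI, qI]

theorem toQ_genG : toQ genG = ⟨1 / 2, sig / 2, 0, tau / 2⟩ := by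
  ext <;> simp [toQ, genG]

end Ico

open Ico

/-- The coordinate model fills the icosian ring. -/
theorem mem_icosians_iff {q : ℍ[ℝ]} : q ∈ icosians ↔ ∃ x : Ico, x.toQ = q := by
  constructor
  · intro hq
    refine Subring.closure_induction (p := fun q _ => ∃ x : Ico, x.toQ = q) ?_ ⟨0, toQ_zero⟩
      ⟨1, toQ_one⟩ ?_ ?_ ?_ hq
    · rintro _ (rfl | rfl)
      · exact ⟨genI, toQ_genI⟩
      · exact ⟨genG, toQ_genG⟩
    · rintro _ _ _ _ ⟨x, rfl⟩ ⟨y, rfl⟩
      exact ⟨x + y, toQ_add x y⟩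
    · rintro _ _ ⟨x, rfl⟩
      exact ⟨-x, toQ_neg x⟩
    · rintro _ _ _ _ ⟨x, rfl⟩ ⟨y, rfl⟩
      exact ⟨x * y, toQ_mul x y⟩
  · rintro ⟨x, rfl⟩
    have hI : genI.toQ ∈ icosians := by
      rw [toQ_genI]; exact Subring.subset_closure (by simp)
    have hG : genG.toQ ∈ icosians := by
      rw [toQ_genG]; exact Subring.subset_closure (Or.inr rfl)
    set sI : Ico := ⟨Zt.s, 0, 0, 0⟩ with hsI
    have hs : sI = genI - genI * genG - genG * genI := by decide
    have hS : sI.toQ ∈ icosians := by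
      rw [hs, toQ_sub, toQ_sub, toQ_mul, toQ_mul]
      exact sub_mem (sub_mem hI (mul_mem hI hG)) (mul_mem hG hI)
    have hz : ∀ z : Zt, (⟨z, 0, 0, 0⟩ : Ico).toQ ∈ icosians := by
      intro z
      have e : (⟨z, 0, 0, 0⟩ : Ico).toQ = z.a • (1 : ℍ[ℝ]) + z.b • (1 - sI.toQ) := by
        ext <;> simp [hsI, Zt.sig_eq] <;> simp [Zt.val]
      rw [e]
      exact add_mem (zsmul_mem (one_mem _) _) (zsmul_mem (sub_mem (one_mem _) hS) _)
    have e : x.toQ = (⟨x.z0, 0, 0, 0⟩ : Ico).toQ + (⟨x.z1, 0, 0, 0⟩ : Ico).toQ * genI.toQ +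
        (⟨x.z2, 0, 0, 0⟩ : Ico).toQ * genG.toQ +
        (⟨x.z3, 0, 0, 0⟩ : Ico).toQ * (genI.toQ * genG.toQ) := by
      ext <;> simp [genI, genG] <;> ring
    rw [e]
    exact add_mem (add_mem (add_mem (hz _) (mul_mem (hz _) hI)) (mul_mem (hz _) hG))
      (mul_mem (hz _) (mul_mem hI hG))

end Cfsg.IcoLeech

end
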